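import Cfsg.Agent.H383.Cube.Crude_m3
import Cfsg.Agent.MK.T.D_m3
import Cfsg.Agent.GH.L2AutSyl_m3
import Cfsg.Agent.SignalizersComponents.DihedralIso
import Cfsg.Agent.Blocks.ExistsModular
import Cfsg.Agent.H684.CoverCount_m3
import Cfsg.Agent.H195.HT.Top
import Cfsg.Agent.S4652
import Cfsg.Agent.S4528
import Cfsg.Agent.S0948
import Cfsg.Agent.H504.PslOut
import Cfsg.Agent.S2086
import Cfsg.Agent.H191.EB515.OddRee
import Cfsg.Agent.H608.KKL.C1
import Cfsg.Agent.H70.S3530.ReeExt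
import Cfsg.Agent.SmallSimple.S1000.FrameAut
import Cfsg.Agent.S2113
import Cfsg.Agent.S2127
import Cfsg.Agent.ODD.Red.Cl_m3
import Cfsg.Agent.S2034
import Cfsg.Agent.S2035
import Cfsg.Agent.S2036
import Cfsg.Agent.S2037
import Cfsg.Agent.S2038
import Cfsg.Agent.S2039
import Cfsg.Agent.S2040
import Cfsg.Agent.S2041
import Cfsg.Agent.S2042
import Cfsg.Agent.S2043
import Cfsg.Agent.S2044
import Cfsg.Agent.S2045
import Cfsg.Agent.S2046
import Cfsg.Agent.S2047
import Cfsg.Agent.S2048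
import Cfsg.Agent.S2049
import Cfsg.Agent.S2050
import Cfsg.Agent.S2051
import Cfsg.Agent.S2052
import Cfsg.Agent.S2053
import Cfsg.Agent.S2054
import Cfsg.Agent.S2055
import Cfsg.Agent.S2056
import Cfsg.Agent.S2057
import Cfsg.Agent.S2058
import Cfsg.Agent.S2059
import Cfsg.Agent.MK.S.Pc
import Cfsg.Agent.MK.T.A
import Cfsg.Agent.F42.AllSys_m3
import Cfsg.Agent.TAB.F42.G.K2
import Cfsg.Agent.TAB.F42.G.Out
import Cfsg.Agent.Characters.GaloisIrr
import Cfsg.Agent.Lib.FinFast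
import Cfsg.Agent.S1054
import Cfsg.Agent.MK.Y.CoreI_m3
import Cfsg.Agent.TAB.HN.CertB_m3
import Cfsg.Agent.TwoF.SpC.HSDat
import Cfsg.Agent.QTNorm.SporHS
import Cfsg.Agent.S2072
import Cfsg.Agent.H493.CC.AmbB_m3
import Cfsg.Agent.TAB.J1.Main
import Cfsg.Agent.OddHalf.D4.Spor.J1Out
import Cfsg.Agent.ODD.C2.OmD_m3
import Cfsg.Agent.GAL.Spor.HN_m3
import Cfsg.Agent.S2067
import Cfsg.Agent.H133.FibPce
import Cfsg.Agent.H95.StemCover
import Cfsg.Agent.Lib.FastPerm
import Cfsg.Agent.FastGrp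
import Cfsg.Agent.Prune
set_option linter.all false

-- part: MK/GO/Num
section
set_option linter.all false
open scoped Cfsg.Agent.FastGrp

/-!
# MK, orthogonal rows: the `2`-parts of the Poincaré polynomials (helper19)

`Ed x y` : `x` divides `y` up to an odd factor; `ed_B`, `ed_D`.
-/

set_option autoImplicit false

namespace Cfsg.Agent.MK.GO

open Finset Cfsg.Agent.H383.Cube

/-- `x` divides `y` up to an odd factor -/
def Ed (x y : ℕ) : Prop := ∃ u, Odd u ∧ x ∣ y * u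

theorem Ed.of_dvd {x y : ℕ} (h : x ∣ y) : Ed x y := ⟨1, odd_one, by rwa [mul_one]⟩

theorem Ed.rfl' (x : ℕ) : Ed x x := .of_dvd dvd_rfl

theorem Ed.mul {x y z w : ℕ} (h : Ed x y) (k : Ed z w) : Ed (x * z) (y * w) := by
  obtain ⟨u, hu, h⟩ := h
  obtain ⟨v, hv, k⟩ := k
  exact ⟨u * v, hu.mul hv, by rw [mul_mul_mul_comm]; exact mul_dvd_mul h k⟩

theorem Ed.congr {x y x' y' : ℕ} (h : Ed x y) (e1 : x' = x) (e2 : y' = y) : Ed x' y' := e1 ▸ e2 ▸ h

theorem Ed.of_odd {x : ℕ} (h : Odd x) (y : ℕ) : Ed x y := ⟨x, h, dvd_mul_left _ _⟩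

theorem Ed.pow_dvd {x y j : ℕ} (h : Ed x y) (hj : 2 ^ j ∣ x) : 2 ^ j ∣ y := by
  obtain ⟨u, hu, h⟩ := h
  exact (Nat.Coprime.pow_left j (Nat.coprime_two_left.2 hu)).dvd_of_dvd_mul_right (hj.trans h)

theorem gs_two (c k : ℕ) : ∑ j ∈ range (2 * k), c ^ j = (c + 1) * ∑ j ∈ range k, (c ^ 2) ^ j := by
  induction k with
  | zero => simp
  | succ k ih => rw [mul_add 2, mul_one, sum_range_succ, sum_range_succ, ih, sum_range_succ, ← pow_mul]; ring

theorem gs_odd {c : ℕ} (hc : Odd c) (k : ℕ) : Odd (∑ j ∈ range (2 * k + 1), c ^ j) := by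
  rw [sum_range_succ, gs_two]
  exact (hc.add_one.mul_right _).add_odd hc.pow

theorem sq_mod {c : ℕ} (hc : Odd c) : c ^ 2 % 4 = 1 := by
  obtain ⟨k, rfl⟩ := hc
  rw [show (2 * k + 1) ^ 2 = 1 + 4 * (k ^ 2 + k) by ring, Nat.add_mul_mod_self_left]

theorem ed_two {c : ℕ} (hc : c % 4 = 1) : Ed (c + 1) 2 :=
  ⟨2 * (c / 4) + 1, odd_two_mul_add_one _, dvd_of_eq (by omega)⟩

theorem ed_gs (k : ℕ) : ∀ {c : ℕ}, c % 4 = 1 → Ed (∑ j ∈ range k, c ^ j) k := by
  induction k using Nat.strong_induction_on with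
  | _ k ih =>
    intro c hc
    have h1 : Odd c := Nat.odd_iff.2 (by omega)
    obtain ⟨m, rfl | rfl⟩ := Nat.even_or_odd' k
    · rcases Nat.eq_zero_or_pos m with rfl | h2
      · exact .of_dvd (by simp)
      · rw [gs_two]
        exact (ed_two hc).mul (ih m (by omega) (sq_mod h1))
    · exact .of_odd (gs_odd h1 m) _

theorem ed_even {a : ℕ} (ha : Odd a) (k : ℕ) : Ed (1 + a ^ (2 * k)) 2 := by
  rw [add_comm]
  refine ed_two ?_
  rw [pow_mul, Nat.pow_mod, sq_mod ha]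
  simp

theorem ed_odd {a : ℕ} (ha : Odd a) (k : ℕ) : Ed (1 + a ^ (2 * k + 1)) (a + 1) := by
  have h1 : ∃ u, Odd u ∧ 1 + a ^ (2 * k + 1) = (a + 1) * u := by
    induction k with
    | zero => exact ⟨1, odd_one, by ring⟩
    | succ k ih =>
      obtain ⟨u, hu, h2⟩ := ih
      obtain ⟨c, hc⟩ := ha
      refine ⟨u + 2 * (c * a ^ (2 * k + 1)), hu.add_even (even_two_mul _), ?_⟩
      rw [mul_add (a + 1), ← h2, show 2 * (k + 1) + 1 = 2 * k + 1 + 2 by ring, pow_add a _ 2]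
      generalize a ^ (2 * k + 1) = x
      rw [hc]
      ring
  exact h1.imp fun u h => ⟨h.1, dvd_of_eq h.2⟩

theorem ed_step {a : ℕ} (ha : Odd a) (m e : ℕ) :
    Ed ((∑ j ∈ range (m + 1), a ^ j) * (∑ j ∈ range (m + 2), a ^ j) * ((1 + a ^ e) * (1 + a ^ (e + 1))))
      ((m + 1) * (m + 2) * (a + 1) ^ 2) := by
  have h1 : Ed ((1 + a ^ e) * (1 + a ^ (e + 1))) (2 * (a + 1)) := by
    obtain ⟨k, rfl | rfl⟩ := Nat.even_or_odd' e
    · exact (ed_even ha k).mul (ed_odd ha k)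
    · exact ((ed_odd ha k).mul (ed_even ha (k + 1))).congr rfl (mul_comm _ _)
  have h2 : ∀ k, Ed (∑ j ∈ range (2 * k), a ^ j) ((a + 1) * k) := fun k => by
    rw [gs_two]
    exact (Ed.rfl' _).mul (ed_gs k (sq_mod ha))
  obtain ⟨k, rfl | rfl⟩ := Nat.even_or_odd' m
  · exact (((Ed.of_odd (gs_odd ha k) (2 * k + 1)).mul (h2 (k + 1))).mul h1).congr rfl (by ring)
  · exact (((h2 (k + 1)).mul (Ed.of_odd (gs_odd ha (k + 1)) (2 * k + 3))).mul h1).congr rfl (by ring)

/-- **types `B_r`, `²D_{r+1}`** -/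
theorem ed_B {a : ℕ} (ha : Odd a) (e r : ℕ) :
    Ed (NB a (a ^ e) r * 2 ^ r) (NB 1 1 r * ((a + 1) ^ (2 * (r / 2)) * (a ^ e + 1) ^ (r % 2))) := by
  induction r using Nat.twoStepInduction with
  | zero => exact .of_dvd (by simp [NB])
  | one => exact .of_dvd (dvd_of_eq (by simp [NB]; ring))
  | more r ih _ =>
    refine ((ih.mul (ed_step ha r (r + e))).mul (Ed.rfl' 4)).congr ?_ ?_
    · simp only [NB, prod_range_succ]
      ring
    · rw [Nat.add_div_right r two_pos, Nat.add_mod_right]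
      simp only [NB, prod_range_succ, one_pow, sum_const, card_range, smul_eq_mul]
      ring

/-- **type `D_{r+1}`** -/
theorem ed_D {a : ℕ} (ha : Odd a) (r : ℕ) :
    Ed (ND a (r + 1) * 2 ^ (2 * ((r + 1) / 2))) (ND 1 (r + 1) * (a + 1) ^ (2 * ((r + 1) / 2))) := by
  induction r using Nat.twoStepInduction with
  | zero => exact .of_dvd (by simp [ND])
  | one => exact .of_dvd (dvd_of_eq (by simp [ND, sum_range_succ]; ring))
  | more r ih _ =>
    refine ((ih.mul (ed_step ha (r + 1) (r + 1))).mul (Ed.rfl' 4)).congr ?_ ?_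
    · rw [show r + 2 + 1 = r + 1 + 2 by ring, Nat.add_div_right _ two_pos]
      simp only [ND, Nat.add_sub_cancel, show r + 1 + 2 - 1 = r + 1 + 1 from rfl, prod_range_succ]
      ring
    · rw [show r + 2 + 1 = r + 1 + 2 by ring, Nat.add_div_right _ two_pos]
      simp only [ND, Nat.add_sub_cancel, show r + 1 + 2 - 1 = r + 1 + 1 from rfl, prod_range_succ, one_pow, sum_const,
        card_range, smul_eq_mul]
      ring

end Cfsg.Agent.MK.GO

private theorem dce_2bc880a01e1c : _root_.True := by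
  try have : _root_.True := by simp only [_root_.Cfsg.Agent.H383.Cube.NB.eq_1]
  try have : _root_.True := by simp only [_root_.Cfsg.Agent.H383.Cube.ND.eq_1]
  exact _root_.True.intro
end

-- part: MK/L/Gen
section
prune_inst 0x7f00000000000000000000000000000000000000000000000000000000000000000000000000000000000000000000000000000000000000000000000000000000000000000000000000000000000000003fffffffffffffffffffffffffffbeffbdffffffff
set_option linter.all false
open scoped Cfsg.Agent.FastGrp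

/-!
# MK-L: general tools for the rows `L₂(q)` and Ree (helper81)

* `sm_of_cyc`, `sm_of_four` : `Sm` for a cyclic outer automorphism group;
* `k0_eq_block` : the odd characters are the characters of height zero of the principal block;
* `k0_dih`, `k0_klein` : dihedral Sylow subgroups.
-/

set_option autoImplicit false

namespace Cfsg.Agent.MK.L

open Cfsg Subgroup Cfsg.Agent.ODD.Red Cfsg.Agent.Characters Cfsg.Agent.Characters.Core Cfsg.Agent.MK.T

section perm

variable {G : Type} [Group G]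

/-- the permutation of the odd characters -/
def pm (α : MulAut G) : Equiv.Perm {χ : G → ℂ // OI G χ} where
  toFun χ := ⟨fun x => χ.1 (α x), oi_equiv α χ.2⟩
  invFun χ := ⟨fun x => χ.1 (α⁻¹ x), oi_equiv (α⁻¹ : MulAut G) χ.2⟩
  left_inv χ := Subtype.ext (funext fun x => by simp)
  right_inv χ := Subtype.ext (funext fun x => by simp)

theorem pm_pow (α : MulAut G) : ∀ k : ℕ, pm (α ^ k) = pm α ^ k
  | 0 => rfl
  | k + 1 => by
    rw [pow_succ' (pm α), ← pm_pow α k, pow_succ]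
    rfl

theorem f0_eq (α : MulAut G) : f0 α = Nat.card {b // pm α b = b} :=
  Nat.card_congr
    { toFun := fun χ => ⟨⟨χ.1, χ.2.1⟩, Subtype.ext (funext χ.2.2)⟩
      invFun := fun b => ⟨b.1.1, b.1.2, congrFun (congrArg Subtype.val b.2)⟩
      left_inv := fun _ => rfl
      right_inv := fun _ => rfl }

theorem oi_one : OI G fun _ => 1 := ⟨isIrr_one, by rw [charDegree_of (n := 1) (by simp)]; exact odd_one⟩

theorem fin_four : ∀ s : Equiv.Perm (Fin 4), (∃ b, s b = b) →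
    (s * s = 1 ∧ (s = 1 ∨ Fintype.card {b // s b = b} = 2)) ∨
      (s * s * s = 1 ∧ Fintype.card {b // s b = b} = 1 ∧ Fintype.card {b // (s * s) b = b} = 1) := by
  decide +kernel

theorem fin_four_pow (s : Equiv.Perm (Fin 4)) (h : ∃ b, s b = b) {m : ℕ} (hm : Nat.card {b // (s ^ m) b = b} = 2)
    (k : ℕ) : Nat.card {b // (s ^ k) b = b} = if Even k then 4 else 2 := by
  have h4 : Nat.card {b // (1 : Equiv.Perm (Fin 4)) b = b} = 4 := by
    rw [Nat.card_eq_fintype_card]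
    rfl
  rcases fin_four s h with ⟨h1, h2 | h2⟩ | ⟨h1, h2, h3⟩
  · rw [h2, one_pow, h4] at hm
    omega
  · rw [← pow_two] at h1
    rw [pow_eq_pow_mod k h1]
    rcases Nat.even_or_odd k with h5 | h5
    · rw [if_pos h5, Nat.even_iff.1 h5, pow_zero, h4]
    · rw [if_neg (Nat.not_even_iff_odd.2 h5), Nat.odd_iff.1 h5, pow_one, Nat.card_eq_fintype_card, h2]
  · exfalso
    rw [← pow_three'] at h1
    rw [pow_eq_pow_mod m h1] at hm
    have h5 : m % 3 = 0 ∨ m % 3 = 1 ∨ m % 3 = 2 := by omega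
    rcases h5 with h5 | h5 | h5 <;> rw [h5] at hm
    · rw [pow_zero, h4] at hm
      omega
    · rw [pow_one, Nat.card_eq_fintype_card, h2] at hm
      omega
    · rw [pow_two, Nat.card_eq_fintype_card, h3] at hm
      omega

theorem four_pow {B : Type} (hB : Nat.card B = 4) (s : Equiv.Perm B) (h : ∃ b, s b = b) {m : ℕ}
    (hm : Nat.card {b // (s ^ m) b = b} = 2) (k : ℕ) : Nat.card {b // (s ^ k) b = b} = if Even k then 4 else 2 := by
  have : Finite B := Nat.finite_of_card_ne_zero (by omega)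
  let e : B ≃ Fin 4 := Finite.equivFinOfCardEq hB
  have h1 : ∀ j : ℕ, Nat.card {b // (s ^ j) b = b} = Nat.card {b // (e.permCongrHom s ^ j) b = b} := fun j => by
    rw [← map_pow]
    refine Nat.card_congr (e.subtypeEquiv fun b => ?_)
    change _ ↔ e ((s ^ j) (e.symm (e b))) = e b
    rw [e.symm_apply_apply, e.apply_eq_iff_eq]
  rw [h1] at hm ⊢
  obtain ⟨b, hb⟩ := h
  refine fin_four_pow _ ⟨e b, ?_⟩ hm k
  change e (s (e.symm (e b))) = e b
  rw [e.symm_apply_apply, hb]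

theorem f0_pow (h4 : k0 G = 4) (γ : MulAut G) {m : ℕ} (hm : f0 (γ ^ m) = 2) (k : ℕ) :
    f0 (γ ^ k) = if Even k then 4 else 2 := by
  rw [f0_eq, pm_pow] at hm ⊢
  exact four_pow h4 _ ⟨⟨_, oi_one⟩, rfl⟩ hm k

end perm

section sm

variable {X : Type} [Group X] [Finite X]

theorem exists_gen (hc : IsCyclic (Out X)) (Q : Sylow 2 X) :
    ∃ γ : MulAut X, (∀ x, γ x ∈ (Q : Subgroup X) ↔ x ∈ (Q : Subgroup X)) ∧
      ∀ α : MulAut X, ∃ (k : ℕ) (x : X), α = MulAut.conj x * γ ^ k := by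
  have := two_prime
  have : Finite (MulAut X) := Finite.of_injective (fun e : MulAut X => (e : X → X)) DFunLike.coe_injective
  obtain ⟨g, hg⟩ := hc.exists_monoid_generator
  obtain ⟨β, rfl⟩ := QuotientGroup.mk_surjective g
  obtain ⟨y, hy⟩ := MulAction.exists_smul_eq X (Q.mapSurjective (f := β.toMonoidHom) β.surjective) Q
  refine ⟨MulAut.conj y * β, stab_of_le fun x hx => ?_, fun α => ?_⟩
  · exact GH.L2Aut.conj_mem_syl hy (mem_map_of_mem β.toMonoidHom hx)
  · obtain ⟨k, hk⟩ := hg (α : Out X)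
    have h1 : ((MulAut.conj y * β : MulAut X) : Out X) = β := by
      rw [QuotientGroup.mk_mul, (QuotientGroup.eq_one_iff (N := Inn X) (MulAut.conj y)).2 ⟨y, rfl⟩, one_mul]
    have h2 : (((MulAut.conj y * β) ^ k * α⁻¹ : MulAut X) : Out X) = 1 := by
      rw [QuotientGroup.mk_mul, QuotientGroup.mk_pow, h1, QuotientGroup.mk_inv, ← hk, mul_inv_cancel]
    obtain ⟨x, hx⟩ := (QuotientGroup.eq_one_iff _).1 h2
    exact ⟨k, x⁻¹, by rw [map_inv, hx]; group⟩

theorem sm_of_cyc (hZ : center X = ⊥) (hc : IsCyclic (Out X)) (Q : Sylow 2 X)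
    (h : ∀ α : MulAut X, (∀ x, α x ∈ (Q : Subgroup X) ↔ x ∈ (Q : Subgroup X)) →
      f0 α = fN (normalizer ((Q : Subgroup X) : Set X)) α) : Sm X := by
  obtain ⟨γ, -, hγ⟩ := exists_gen hc Q
  exact ⟨⟨γ, fun α _ => hγ α⟩, Q, fun l _ α _ hα => fA_eq_fB hZ (h α hα) l⟩

omit [Finite X] in
theorem stab_pow {Q : Subgroup X} {γ : MulAut X} (h : ∀ x, γ x ∈ Q ↔ x ∈ Q) : ∀ (k : ℕ) (x : X), (γ ^ k) x ∈ Q ↔ x ∈ Q
  | 0, _ => Iff.rfl
  | k + 1, x => by rw [pow_succ', MulAut.mul_apply, h, stab_pow h k]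

omit [Finite X] in
theorem res_pow (K : Subgroup X) (γ : MulAut X) (h : ∀ x, γ x ∈ K ↔ x ∈ K) :
    ∀ (k : ℕ) (y : K), ((res K γ h ^ k) y : X) = (γ ^ k) y
  | 0, _ => rfl
  | k + 1, y => by rw [pow_succ', pow_succ', MulAut.mul_apply, MulAut.mul_apply, res_coe, res_pow K γ h k]

omit [Finite X] in
theorem mem_norm_of {Q : Subgroup X} {β : MulAut X} {x : X} (h : ∀ y, β y ∈ Q ↔ y ∈ Q)
    (h' : ∀ y, (MulAut.conj x * β) y ∈ Q ↔ y ∈ Q) : x ∈ normalizer (Q : Set X) := by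
  rw [mem_normalizer_iff]
  intro y
  obtain ⟨y, rfl⟩ := β.surjective y
  exact (h y).trans (h' y).symm

/-- **four odd characters on both sides, two of them are interchanged** -/
theorem sm_of_four (hZ : center X = ⊥) (hc : IsCyclic (Out X)) (Q : Sylow 2 X) (h1 : k0 X = 4)
    (h2 : k0 (normalizer ((Q : Subgroup X) : Set X)) = 4) {δ : MulAut X}
    (hδ : ∀ x, δ x ∈ (Q : Subgroup X) ↔ x ∈ (Q : Subgroup X)) (h3 : f0 δ = 2)
    (h4 : fN (normalizer ((Q : Subgroup X) : Set X)) δ = 2) : Sm X := by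
  obtain ⟨γ, hQ, hγ⟩ := exists_gen hc Q
  have key : ∀ α : MulAut X, (∀ x, α x ∈ (Q : Subgroup X) ↔ x ∈ (Q : Subgroup X)) → ∃ k : ℕ, f0 α = f0 (γ ^ k) ∧
      fN (normalizer ((Q : Subgroup X) : Set X)) α = f0 (res _ γ (stab_norm hQ) ^ k) := fun α hα => by
    obtain ⟨k, x, rfl⟩ := hγ α
    exact ⟨k, f0_conj_mul _ _, by
      rw [fN_conj_mul (mem_norm_of (stab_pow hQ k) hα), fN_eq_f0 (res_pow _ γ (stab_norm hQ) k)]⟩
  refine sm_of_cyc hZ hc Q fun α hα => ?_
  obtain ⟨m, h5, h6⟩ := key δ hδ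
  obtain ⟨k, h7, h8⟩ := key α hα
  rw [h7, h8, f0_pow h1 γ (h5 ▸ h3), f0_pow h2 _ (h6 ▸ h4)]

end sm

section block

variable {G : Type} [Group G] [Finite G] {M : Ideal AlgInt}

theorem mem_principal (hM : IsPModular 2 M) {U : Subgroup G} (hU : IsPGroup 2 U)
    (hC : IsPGroup 2 (centralizer (U : Set G))) {χ : G → ℂ} (h : OI G χ) :
    (⟨χ, h.1⟩ : IrrCharacter G) ∈ principalBlock M G := by
  have := two_prime
  exact H684.Principal.mem_of_not_dvd hM hU hC _ (Odd.not_two_dvd_nat h.2)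

theorem k0_eq_card (hM : IsPModular 2 M) {U : Subgroup G} (hU : IsPGroup 2 U)
    (hC : IsPGroup 2 (centralizer (U : Set G))) {p : IrrCharacter G → Prop}
    (h : ∀ χ ∈ principalBlock M G, p χ ↔ Odd (charDegree (χ : G → ℂ))) :
    k0 G = Nat.card {χ : IrrCharacter G // χ ∈ principalBlock M G ∧ p χ} :=
  Nat.card_congr
    { toFun := fun χ => ⟨⟨χ.1, χ.2.1⟩, mem_principal hM hU hC χ.2, (h _ (mem_principal hM hU hC χ.2)).2 χ.2.2⟩
      invFun := fun χ => ⟨χ.1.1, χ.1.2, (h _ χ.2.1).1 χ.2.2⟩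
      left_inv := fun _ => rfl
      right_inv := fun _ => rfl }

theorem k0_eq_block (hM : IsPModular 2 M) {U : Subgroup G} (hU : IsPGroup 2 U)
    (hC : IsPGroup 2 (centralizer (U : Set G))) : k0 G = Nat.card {χ : IrrCharacter G // χ ∈ principalBlock M G ∧
      blockHeight 2 (principalBlock M G) (χ : G → ℂ) = 0} :=
  k0_eq_card hM hU hC fun χ _ => by
    rw [H195.HT.blockHeight_eq_vd 2 hM, H316.HT.vd, Nat.factorization_eq_zero_iff, ← Nat.not_even_iff_odd,
      even_iff_two_dvd]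
    have h1 := Blocks.Basic.charDegree_pos χ.2
    exact ⟨fun h => h.elim (fun h => absurd Nat.prime_two h) fun h => h.resolve_right h1.ne', fun h => .inr (.inl h)⟩

omit [Finite G] in
theorem isPBlock_principal : IsPBlock M (principalBlock M G) := ⟨⟨_, isIrr_one⟩, rfl⟩

theorem isDefect_principal (hM : IsPModular 2 M) (P : Sylow 2 G) :
    IsDefectGroup 2 M (principalBlock M G) (P : Subgroup G) := by
  have := two_prime
  have := Fintype.ofFinite G
  exact (S4652.result 2 M hM _).2 ⟨P, rfl⟩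

open GH.L2Aut in
/-- **dihedral Sylow subgroups of order at least eight** -/
theorem k0_dih (P : Sylow 2 G) {d r : G} (h : Dih (P : Subgroup G) d r) (hd : d * d ≠ 1) {U : Subgroup G}
    (hU : IsPGroup 2 U) (hC : IsPGroup 2 (centralizer (U : Set G))) : k0 G = 4 := by
  obtain ⟨M, hM⟩ := Blocks.ExistsModular.exists_isPModular Nat.prime_two
  obtain ⟨n, hn, -⟩ := h.exists_z P.isPGroup'
  have h1 : (P : Subgroup G) = zpowers r ⊔ zpowers d := by
    refine le_antisymm (fun x hx => ?_) (sup_le (zpowers_le.2 h.r_mem) (zpowers_le.2 h.d_mem))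
    rcases h.cov x hx with h2 | ⟨k, rfl⟩
    · exact mem_sup_right h2
    · exact mul_mem (mem_sup_right (zpow_mem (mem_zpowers d) k)) (mem_sup_left (mem_zpowers r))
  have h2 : n ≠ 0 := by
    rintro rfl
    exact hd (by rw [← pow_two, ← pow_orderOf_eq_one d, hn]; rfl)
  have h3 := SignalizersComponents.DihedralIso.nonempty_mulEquiv_of_notMem r d h.rr h.rd h.r_not
  rw [← h1, hn] at h3
  rw [k0_eq_block hM hU hC]
  exact (S4528.result M hM _ isPBlock_principal _ (isDefect_principal hM P) (n + 2) (by omega) h3).2.2.2.1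

/-- **Klein four Sylow subgroups, one class of involutions** -/
theorem k0_klein (P : Sylow 2 G) (h : IsKleinFour (P : Subgroup G))
    (hc : ∀ s t : G, orderOf s = 2 → orderOf t = 2 → IsConj s t) {U : Subgroup G}
    (hU : IsPGroup 2 U) (hC : IsPGroup 2 (centralizer (U : Set G))) : k0 G = 4 := by
  classical
  obtain ⟨M, hM⟩ := Blocks.ExistsModular.exists_isPModular Nat.prime_two
  obtain ⟨a, b, c, ε, hε, a1, b1, ab, ac, bc, hB, hz, ha, hb, hc', -⟩ := S0948.result M hM P h hc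
  have := two_prime
  obtain ⟨z, hz2⟩ := exists_prime_orderOf_dvd_card' (G := (P : Subgroup G)) 2 (by rw [h.card_four]; norm_num)
  have c1 : (c : G → ℂ) ≠ fun _ => 1 := fun e => by
    have h1 := (hz z (by rw [orderOf_coe, hz2])).2.2
    rw [e] at h1
    norm_num at h1
  let o : IrrCharacter G := ⟨fun _ => 1, isIrr_one⟩
  have h1 : principalBlock M G = (({o, a, b, c} : Finset (IrrCharacter G)) : Set (IrrCharacter G)) := by
    rw [hB]
    ext χ
    simp only [Set.mem_ofPred_eq, Finset.coe_insert, Finset.coe_singleton, Set.mem_insert_iff, Set.mem_singleton_iff]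
    exact or_congr_left ⟨fun e => Subtype.ext e, fun e => congrArg Subtype.val e⟩
  rw [k0_eq_card hM hU hC (p := fun _ => True) fun χ hχ => ?_]
  · simp only [and_true]
    rw [h1]
    change Nat.card (({o, a, b, c} : Finset (IrrCharacter G)) : Set (IrrCharacter G)) = 4
    rw [Nat.card_coe_set_eq, Set.ncard_coe_finset, Finset.card_insert_of_notMem, Finset.card_insert_of_notMem,
      Finset.card_pair bc]
    · simp only [Finset.mem_insert, Finset.mem_singleton, not_or]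
      exact ⟨ab, ac⟩
    · simp only [Finset.mem_insert, Finset.mem_singleton, not_or]
      exact ⟨fun e => a1 (congrArg Subtype.val e).symm, fun e => b1 (congrArg Subtype.val e).symm,
        fun e => c1 (congrArg Subtype.val e).symm⟩
  · rw [true_iff, Nat.odd_iff]
    rw [hB] at hχ
    rcases hχ with e | rfl | rfl | rfl
    · rw [e, charDegree_of (n := 1) (by simp)]
    · omega
    · rcases hε with rfl | rfl <;> omega
    · omega

end block

end Cfsg.Agent.MK.L
end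

-- part: MK/L/L2
section
prune_inst 0x7f00000000000000000000000000000000000000000000000000000000000000000000000000000000000000000000000000000000000000000000000000000000000000000000000000000000000000003fffffffffffffffffffffffffffbeffbdffffffff
set_option linter.all false
open scoped Cfsg.Agent.FastGrp

/-!
# MK-L: the groups `L₂(q)`, `q` odd, `q ≢ 1 (mod 8)` (helper81)

* `k0_sub`, `fN_two` : the counts in `PSL₂(q)` and `PGL₂(q)` (all odd `q`);
* `sm_l2`, `gd_l2`.
-/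

set_option autoImplicit false

namespace Cfsg.Agent.MK.L

open Cfsg Subgroup Cfsg.Agent.ODD Cfsg.Agent.MK.T Cfsg.Agent.GH.L2Aut

section

variable {F : Type} [Field F] [Finite F] {L : Type} [Group L] (R : GH.L2Aut.Rep F L)

/-- an element of `PGL` which centralizes a Sylow subgroup -/
theorem sq_of_fix (Q : Sylow 2 L) {β : MulAut L} (hβ : β ∈ R.PGL) (h : ∀ s ∈ (Q : Subgroup L), β s = s) :
    β ^ 2 ^ 1 = 1 := by
  obtain ⟨a, b, ha, hb, hab⟩ := R.exists_four_mem Q
  rw [pow_one, pow_two]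
  rcases R.fix_four hab hβ (h a ha) (h b hb) with rfl | rfl | rfl | rfl
  · exact mul_one 1
  · rw [← map_mul, hab.aa, map_one]
  · rw [← map_mul, hab.bb, map_one]
  · rw [← map_mul, hab.right.bb, map_one]

include R in
/-- the subgroups which contain the normaliser of a Sylow subgroup -/
theorem k0_sub (Q : Sylow 2 L) {K : Subgroup L} (hK : normalizer ((Q : Subgroup L) : Set L) ≤ K) : k0 K = 4 := by
  have := R.finite
  have := two_prime
  have hQ : (Q : Subgroup L) ≤ K := le_normalizer.trans hK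
  obtain ⟨d, r, h⟩ := R.exists_dih Q
  have h1 : Dih (Q.subtype hQ : Subgroup K) ⟨d, hQ h.d_mem⟩ ⟨r, hQ h.r_mem⟩ :=
    Dih.comap K.subtype K.subtype_injective (by
      rw [Sylow.coe_subtype, subgroupOf_map_subtype, inf_eq_left.2 hQ]
      exact h)
  have hC : IsPGroup 2 (centralizer ((Q.subtype hQ : Subgroup K) : Set K)) := by
    rintro ⟨x, hx⟩
    refine ⟨1, Subtype.ext (Subtype.ext (R.conj_injective ?_))⟩
    have h2 := sq_of_fix R Q (R.conj_mem_PGL x) fun s hs => by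
      have h3 := congrArg Subtype.val (mem_centralizer_iff.1 hx ⟨s, hQ hs⟩ hs)
      rw [MulAut.conj_apply, mul_inv_eq_iff_eq_mul]
      exact h3.symm
    rw [← map_pow] at h2
    exact h2.trans (map_one _).symm
  by_cases hd : d * d = 1
  · have h4 : Four d r := ⟨hd, h.rr, h.d1, h.r1, fun e => h.r_not (e ▸ mem_zpowers d), by
      rw [← mul_inv_eq_iff_eq_mul.1 (h.rd.trans (inv_eq_of_mul_eq_one_left hd))]⟩
    have ho : orderOf d = 2 := orderOf_eq_prime (by rw [pow_two, hd]) h.d1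
    have h5 : ∀ x, x ∈ zpowers d → x = 1 ∨ x = d := fun x hx => by
      obtain ⟨k, rfl⟩ := (mem_powers_iff_mem_zpowers.2 hx : ∃ k : ℕ, d ^ k = x)
      change d ^ k = 1 ∨ d ^ k = d
      rw [← pow_mod_orderOf, ho]
      rcases Nat.mod_two_eq_zero_or_one k with e | e <;> rw [e]
      · exact Or.inl (pow_zero d)
      · exact Or.inr (pow_one d)
    have h6 : ∀ x ∈ (Q : Subgroup L), x = 1 ∨ x = d ∨ x = r ∨ x = d * r := fun x hx => by
      rcases h.cov x hx with e | ⟨k, rfl⟩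
      · exact (h5 x e).imp_right Or.inl
      · rcases h5 _ (zpow_mem (mem_zpowers d) k) with e | e <;> rw [e]
        · exact Or.inr (Or.inr (Or.inl (one_mul r)))
        · exact Or.inr (Or.inr (Or.inr rfl))
    obtain ⟨-, y, -, -, -, -, -, -, -, y1, y2, -⟩ := R.exists_frame h4
    have y3 : y * (d * r) * y⁻¹ = d := by
      rw [show y * (d * r) * y⁻¹ = y * d * y⁻¹ * (y * r * y⁻¹) by group, y1, y2, h4.comm, ← mul_assoc, h.rr, one_mul]
    have hy : y ∈ K := hK (mem_normalizer_fintype fun x hx => by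
      rcases h6 x hx with rfl | rfl | rfl | rfl
      · simp
      · rw [y1]
        exact h.r_mem
      · rw [y2]
        exact mul_mem h.d_mem h.r_mem
      · rw [y3]
        exact h.d_mem)
    have h7 : ∀ s : K, orderOf s = 2 → IsConj s ⟨d, hQ h.d_mem⟩ := fun s hs => by
      obtain ⟨P, hP⟩ := (IsPGroup.of_card (p := 2) (n := 1) (G := zpowers s)
        (by rw [Nat.card_zpowers, hs, pow_one])).exists_le_sylow
      obtain ⟨g, hg⟩ := MulAction.exists_smul_eq K P (Q.subtype hQ)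
      refine (isConj_iff.2 ⟨g, rfl⟩).trans ?_
      have h8 : ((g * s * g⁻¹ : K) : L) ∈ (Q : Subgroup L) :=
        (conj_mem_syl hg (hP (mem_zpowers s)) : g * s * g⁻¹ ∈ Q.subtype hQ)
      rcases h6 _ h8 with e | e | e | e
      · rw [OneMemClass.coe_eq_one, mul_inv_eq_one, mul_eq_left] at e
        rw [e, orderOf_one] at hs
        omega
      · exact (Subtype.ext e : g * s * g⁻¹ = ⟨d, hQ h.d_mem⟩) ▸ IsConj.refl _
      · refine IsConj.symm (isConj_iff.2 ⟨⟨y, hy⟩, Subtype.ext (y1.trans e.symm)⟩)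
      · refine isConj_iff.2 ⟨⟨y, hy⟩, Subtype.ext ?_⟩
        change y * ((g * s * g⁻¹ : K) : L) * y⁻¹ = d
        rw [e, y3]
    refine k0_klein (Q.subtype hQ) ⟨?_, ?_⟩ (fun s t hs ht => (h7 s hs).trans (h7 t ht).symm)
      (Q.subtype hQ).isPGroup' hC
    · rw [h1.card, orderOf_mk, ho]
    · have : Nontrivial (Q.subtype hQ : Subgroup K) := ⟨⟨⟨_, h1.d_mem⟩, 1, fun e => h1.d1 (congrArg Subtype.val e)⟩⟩
      refine (Monoid.exponent_eq_prime_iff Nat.prime_two).2 fun x hx => orderOf_eq_prime ?_ hx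
      refine Subtype.ext (Subtype.ext ?_)
      change (x : L) ^ 2 = 1
      rw [pow_two]
      rcases h6 (x : L) x.2 with e | e | e | e <;> rw [e]
      · exact mul_one 1
      · exact hd
      · exact h.rr
      · exact h4.right.bb
  · exact k0_dih _ h1 (fun e => hd (congrArg Subtype.val e)) (Q.subtype hQ).isPGroup' hC

/-- the diagonal automorphisms -/
theorem fN_two (Q : Sylow 2 L) {M : Subgroup (MulAut L)} (hM : M ≤ R.PGL)
    (hQ : (Q : Subgroup L).map MulAut.conj ≤ M) {δ : MulAut L} (hδ : δ ∈ M)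
    (hn : δ ∉ (MulAut.conj : L →* MulAut L).range) : fN (In M) δ = 2 := by
  have := R.finite
  have := R.finite_aut
  have := two_prime
  have hi : (inH M).range.index = 2 := by
    rw [index_eq_two_iff]
    refine ⟨⟨δ, hδ⟩, fun b => ?_⟩
    rw [mem_range_inH, mem_range_inH, coe_mul]
    by_cases hb : (b : MulAut L) ∈ (MulAut.conj : L →* MulAut L).range
    · exact Or.inr ⟨hb, fun e => hn ((mul_mem_cancel_left hb).1 e)⟩
    · exact Or.inl ⟨R.mul_mem_inn (hM b.2) hb (hM hδ) hn, hb⟩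
  have h1 := k0_index_two (inH M) (inH_inj R.center_eq_bot) hi (a := ⟨δ, hδ⟩) (α := rs M ⟨δ, hδ⟩)
    (fun h => hn ((mem_range_inH _).1 h)) fun y => Subtype.ext (conj_map δ y)
  have hU : IsPGroup 2 (((Q : Subgroup L).map MulAut.conj).subgroupOf M) := (Q.isPGroup'.map _).comap_subtype
  obtain ⟨P, hP⟩ := hU.exists_le_sylow
  obtain ⟨c, d, r, h2, -, h3, h4⟩ := R.dih_plus Q (P := (P : Subgroup M).map M.subtype) (P.isPGroup'.map _)
    ((map_subtype_le _).trans hM) (fun x hx => ⟨⟨x, hQ hx⟩, hP hx, rfl⟩) fun e =>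
      P.not_dvd_index (hi.symm.dvd.trans (index_dvd_of_le fun α hα => (mem_range_inH _).2 (e ⟨α, hα, rfl⟩)))
  obtain ⟨c, -, rfl⟩ := h4.d_mem
  obtain ⟨s, -, hs⟩ := h4.r_mem
  rw [← hs] at h4
  have h5 : k0 M = 4 := by
    refine k0_dih P (h4.comap _ M.subtype_injective) (fun e => h3.d1 (R.conj_injective ?_)) hU ?_
    · rw [← h2, ← map_mul, e, map_one, map_one]
    · rintro ⟨x, hx⟩
      refine ⟨1, Subtype.ext (Subtype.ext (sq_of_fix R Q (hM x.2) fun s hs => R.conj_injective ?_))⟩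
      have h6 := congrArg Subtype.val (mem_centralizer_iff.1 hx ⟨_, hQ ⟨s, hs, rfl⟩⟩ ⟨s, hs, rfl⟩)
      rw [conj_map, mul_inv_eq_iff_eq_mul]
      exact h6.symm
  rw [fN_eq_f0 (β := rs M ⟨δ, hδ⟩) fun _ => rfl]
  omega

include R in
theorem sm_rep (hc : IsCyclic (Out L)) : Sm L := by
  have := R.finite
  have := two_prime
  let Q : Sylow 2 L := default
  obtain ⟨ε, hε⟩ := FiniteField.exists_nonsquare (F := F) fun e => R.two (by
    have h1 := ringChar.Nat.cast_ringChar (R := F)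
    rwa [e] at h1)
  have h0 : ε ≠ 0 := fun e => hε (e ▸ IsSquare.zero)
  let β := R.gl (Matrix.GeneralLinearGroup.mkOfDetNeZero !![ε, 0; 0, 1] (by simpa using h0))
  have hβ : β ∉ (MulAut.conj : L →* MulAut L).range := fun e => hε (by simpa using R.gl_mem_inn.1 e)
  obtain ⟨y, hy⟩ := MulAction.exists_smul_eq L (Q.mapSurjective (f := β.toMonoidHom) β.surjective) Q
  have h1 : MulAut.conj y * β ∈ R.PGL := mul_mem (R.conj_mem_PGL y) (R.gl_mem_PGL _)
  have h2 : MulAut.conj y * β ∉ (MulAut.conj : L →* MulAut L).range := fun e =>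
    hβ ((Subgroup.mul_mem_cancel_left _ (MonoidHom.mem_range.2 ⟨y, rfl⟩)).1 e)
  have h3 : ∀ x, (MulAut.conj y * β) x ∈ (Q : Subgroup L) ↔ x ∈ (Q : Subgroup L) :=
    stab_of_le fun x hx => conj_mem_syl hy (mem_map_of_mem β.toMonoidHom hx)
  have h4 : In (Nm R.PGL Q) = normalizer ((Q : Subgroup L) : Set L) := by
    ext x
    exact ⟨fun h => mem_normalizer_iff.2 fun y => (h.2 y).symm,
      fun h => ⟨R.conj_mem_PGL x, fun y => (mem_normalizer_iff.1 h y).symm⟩⟩
  refine sm_of_four R.center_eq_bot hc Q ((k0_congr topEquiv).symm.trans (k0_sub R Q le_top)) (k0_sub R Q le_rfl)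
    h3 ?_ ?_
  · rw [← fN_top, ← (eq_top_iff' (In R.PGL)).2 fun x => R.conj_mem_PGL x]
    exact fN_two R Q le_rfl (R.map_conj_le Q) h1 h2
  · rw [← h4]
    refine fN_two R Q (M := Nm R.PGL Q) (fun _ h => h.1) ?_ ⟨h1, h3⟩ h2
    rintro _ ⟨x, hx, rfl⟩
    exact (h4.ge (le_normalizer hx) :)

end

variable {F : Type} [Field F] [Fintype F]

/-- **`L₂(q)`, `q` odd, `q ≢ 1 (mod 8)`** -/
theorem sm_l2 (ho : Odd (Fintype.card F)) (h8 : Fintype.card F % 8 ≠ 1) (h4 : 4 ≤ Fintype.card F) :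
    Sm (Matrix.ProjectiveSpecialLinearGroup (Fin 2) F) := by
  obtain ⟨p, hp⟩ := CharP.exists F
  obtain ⟨f, h1, h2⟩ := FiniteField.card F p
  have := Fact.mk h1
  have h3 : Odd p := (Nat.odd_pow_iff f.ne_zero).1 (h2 ▸ ho)
  refine sm_rep (GH.L2Aut.Rep.ofEquiv (two_ne_zero_of_odd ho) (MulEquiv.refl _))
    (H504.PslOut.isCyclic_out h3 (Nat.not_even_iff_odd.1 fun ⟨k, hk⟩ => h8 ?_) h2 (h2 ▸ h4))
  have h5 : p ^ 2 % 8 = 1 := by
    have h6 : p % 8 = 1 ∨ p % 8 = 3 ∨ p % 8 = 5 ∨ p % 8 = 7 := by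
      have := Nat.odd_iff.1 h3
      omega
    rw [Nat.pow_mod]
    rcases h6 with e | e | e | e <;> rw [e]
  rw [h2, hk, ← two_mul, pow_mul, Nat.pow_mod, h5, one_pow]
  rfl

/-- **the row of `L₂(q)`, `q` odd, `q ≢ 1 (mod 8)`** -/
theorem gd_l2 (h : Steps) {K : Fam} {X : Type} [Group X] [Finite X] (c : Cov K X) {Γ : Subgroup (MulAut X)}
    (s : Sit X Γ) (ho : Odd (Fintype.card F)) (h8 : Fintype.card F % 8 ≠ 1) (h4 : 4 ≤ Fintype.card F)
    (e : Nonempty (X ⧸ center X ≃* Matrix.ProjectiveSpecialLinearGroup (Fin 2) F)) : Gd X Γ := by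
  refine S.gd_of_mb h.sm c s e (k := 1) ((Cv.MB.of_cyc (S2086.result rfl 2 le_rfl (fun _ => h4) ?_)).mono
    (Nat.gcd_dvd_left _ _)) fun _ => sm_l2 ho h8 h4
  have := Nat.odd_iff.1 ho
  simp only [Set.mem_insert_iff, Set.mem_singleton_iff, Prod.mk.injEq]
  omega

end Cfsg.Agent.MK.L
end

-- part: MK/L/Ree
section
prune_inst 0x7f00000000000000000000000000000000000000000000000000000000000000000000000000000000000000000000000000000000000000000000000000000000000000000000000000000000000000003fffffffffffffffffffffffffffbeffbdffffffff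
set_option linter.all false
open scoped Cfsg.Agent.FastGrp

/-!
# MK-L: the Ree groups (helper81)

The odd characters are the eight rows of the pattern `Eight`; automorphisms of odd order fix them.  On the normaliser
`2³:7:3` of a Sylow `2`-subgroup all automorphisms act as inner ones.
-/

set_option autoImplicit false

namespace Cfsg.Agent.MK.L

open Cfsg Subgroup Cfsg.Agent.ODD Cfsg.Agent.ODD.Red Cfsg.Agent.MK.T Cfsg.Agent.Characters.Core
open Cfsg.Agent.Ree Cfsg.Agent.Ree.Interface Cfsg.Agent.Ree.Rows Cfsg.Agent.Ree.DegVal Cfsg.Agent.Ree.NumPattern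
  Cfsg.Agent.Ree.NumEight Cfsg.Agent.H191.EB515

section num

variable {ι : Type}

theorem fix_of_per {π : ι → ι} {n : ℕ} (hn : Odd n) {x : ι} (h : π^[n] x = x) (h4 : π (π (π (π x))) = x) : π x = x := by
  have h1 : Function.IsPeriodicPt π (Nat.gcd n (2 ^ 2)) x := Function.IsPeriodicPt.gcd h h4
  rwa [(Nat.coprime_two_right.2 hn).pow_right 2] at h1

theorem two_fix {π : ι → ι} (hi : Function.Injective π) {n : ℕ} (hn : Odd n) {a b : ι} (h : π^[n] a = a)
    (ha : π a = a ∨ π a = b) (hb : π b = a ∨ π b = b) : π a = a := by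
  rcases ha with ha | ha
  · exact ha
  · rcases hb with hb | hb
    · exact fix_of_per hn h (by rw [ha, hb, ha, hb])
    · rw [ha, hi (ha.trans hb.symm)]

private theorem fin_comm_h30 : ∀ a b : Fin 4, a ≠ b → ∀ c : Fin 4, a ≠ c → b ≠ c → ∀ d : Fin 4, a ≠ d → b ≠ d → c ≠ d →
    ∀ e : Fin 4, e ≠ 0 → ∀ f : Fin 4, f ≠ 1 → e ≠ f → ∀ g : Fin 4, g ≠ 2 → e ≠ g → f ≠ g →
    ∀ h : Fin 4, h ≠ 3 → e ≠ h → f ≠ h → g ≠ h →
    (∀ i : Fin 4, ![a, b, c, d] (![e, f, g, h] i) = ![e, f, g, h] (![a, b, c, d] i)) →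
    ∀ i : Fin 4, ![a, b, c, d] (![a, b, c, d] (![a, b, c, d] (![a, b, c, d] i))) = i := by
  decide +kernel

theorem fin_comm : ∀ P : Fin 4 → Fin 4, Function.Injective P → ∀ S : Fin 4 → Fin 4, Function.Injective S →
    (∀ i, S i ≠ i) → (∀ i, P (S i) = S (P i)) → ∀ i, P (P (P (P i))) = i := by
  intro P hP S hS h1 h2
  have eP : ![P 0, P 1, P 2, P 3] = P := by funext i; fin_cases i <;> rfl
  have eS : ![S 0, S 1, S 2, S 3] = S := by funext i; fin_cases i <;> rfl
  have key := fin_comm_h30 (P 0) (P 1) (hP.ne (by decide)) (P 2) (hP.ne (by decide)) (hP.ne (by decide)) (P 3)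
    (hP.ne (by decide)) (hP.ne (by decide)) (hP.ne (by decide)) (S 0) (h1 0) (S 1) (h1 1) (hS.ne (by decide)) (S 2) (h1 2)
    (hS.ne (by decide)) (hS.ne (by decide)) (S 3) (h1 3) (hS.ne (by decide)) (hS.ne (by decide)) (hS.ne (by decide))
  rw [eP, eS] at key
  exact key h2

/-- the three classes of rows -/
def cls : Fin 8 → Fin 3 := ![0, 0, 1, 1, 1, 1, 2, 2]

/-- the middle class -/
def em : Fin 4 → Fin 8 := ![2, 3, 4, 5]

variable [Fintype ι] {Q : ℤ} {g : ℕ} {deg val : ι → ℤ} {r : Fin 3 → ι → ℤ} {one : ι} {σ : ι ≃ ι}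
  {e : Fin 8 → ι} {δ : Fin 8 → ℤ}

theorem cls_eq (hQ8 : Q % 8 = 5) (hQ5 : 5 < |Q|) (hb : NumBase Q g deg val r one σ) (h : Eight r one e δ) {i j : Fin 8}
    (hv : val (e i) = val (e j)) : cls i = cls j := by
  obtain ⟨c, hc⟩ : ∃ c, 2 * c = -(Q + 1) := ⟨-(Q + 1) / 2, by omega⟩
  have h1 : ∀ k, |val (e k)| = (![1, |c|, |Q|] : Fin 3 → ℤ) (cls k) := fun k => by
    rw [eight_vals hb h hc k, abs_mul, show |δ k| = 1 by rcases h.δ_sq k with e | e <;> simp [e], one_mul]
    fin_cases k <;> rfl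
  have h2 : 1 ≠ |c| ∧ |c| ≠ |Q| ∧ 1 ≠ |Q| := by
    rcases abs_cases c with a | a <;> rcases abs_cases Q with b | b <;> omega
  have h3 := h1 i
  rw [hv, h1 j] at h3
  generalize cls i = a at h3 ⊢
  generalize cls j = b at h3 ⊢
  fin_cases a <;> fin_cases b <;>
    first | rfl | exact absurd h3 h2.1 | exact absurd h3 h2.2.1 | exact absurd h3 h2.2.2 | exact absurd h3 h2.1.symm |
      exact absurd h3 h2.2.1.symm | exact absurd h3 h2.2.2.symm

theorem fix_of_eight (hQ8 : Q % 8 = 5) (hQ5 : 5 < |Q|) (hb : NumBase Q g deg val r one σ) (h : Eight r one e δ)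
    {π : ι → ι} (hi : Function.Injective π) (hπ : ∀ j, ∃ i, e i = π (e j)) (hv : ∀ χ, val (π χ) = val χ)
    (hs : ∀ χ, π (σ χ) = σ (π χ)) {n : ℕ} (hn : Odd n) (hp : ∀ χ, π^[n] χ = χ) (j : Fin 8) : π (e j) = e j := by
  have h1 : ∀ j, ∃ i, cls i = cls j ∧ π (e j) = e i := fun j => by
    obtain ⟨i, h1⟩ := hπ j
    exact ⟨i, cls_eq hQ8 hQ5 hb h (by rw [h1, hv]), h1.symm⟩
  have two : ∀ a b : Fin 8, cls b = cls a → (∀ i, cls i = cls a → i = a ∨ i = b) → π (e a) = e a := by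
    intro a b h2 h3
    obtain ⟨i, h4, h5⟩ := h1 a
    obtain ⟨k, h6, h7⟩ := h1 b
    refine two_fix hi hn (b := e b) (hp _) ?_ ?_
    · rw [h5]
      exact (h3 i h4).imp (congrArg e) (congrArg e)
    · rw [h7]
      exact (h3 k (h6.trans h2)).imp (congrArg e) (congrArg e)
  have h2 : ∀ (a : Fin 4) (i : Fin 8), cls i = cls (em a) → ∃ b, i = em b := by decide
  have h3 : ∀ a, ∃ b, π (e (em a)) = e (em b) := fun a => by
    obtain ⟨i, h3, h4⟩ := h1 (em a)
    obtain ⟨b, rfl⟩ := h2 a i h3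
    exact ⟨b, h4⟩
  have h4 : ∀ a, ∃ b, σ (e (em a)) = e (em b) := fun a => by
    obtain ⟨k, hk⟩ := (h.mem _).2 ⟨em a, rfl⟩
    obtain ⟨i, h4⟩ := (h.mem (σ (e (em a)))).1 (by
      fin_cases k
      · exact ⟨1, by rwa [hb.gal1]⟩
      · exact ⟨0, by rwa [hb.gal0]⟩
      · exact ⟨2, by rwa [hb.gal2]⟩)
    obtain ⟨b, rfl⟩ := h2 a i (cls_eq hQ8 hQ5 hb h (by rw [h4, hb.gal_val]))
    exact ⟨b, h4.symm⟩
  choose P hP using h3
  choose S hS using h4
  have he : Function.Injective fun a => e (em a) := h.inj.comp (by decide : Function.Injective em)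
  have mid : ∀ a, π (e (em a)) = e (em a) := fun a => by
    refine fix_of_per hn (hp _) ?_
    rw [hP, hP, hP, hP, fin_comm P (fun a b hab => he (hi ?_)) S (fun a b hab => he (σ.injective ?_)) (fun a ha => ?_)
      fun a => he ?_]
    · rw [hP, hP, hab]
    · rw [hS, hS, hab]
    · have h5 := hb.gal0 (e (em a))
      rw [hS, ha, h.r0, h.r1] at h5
      rcases h.δ_sq (em a) with h6 | h6 <;> rw [h6] at h5 <;> revert h5 <;> fin_cases a <;> decide
    · change e (em (P (S a))) = e (em (S (P a)))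
      rw [← hP, ← hS, ← hS, ← hP, hs]
  fin_cases j
  · exact two 0 1 rfl (by decide)
  · exact two 1 0 rfl (by decide)
  · exact mid 0
  · exact mid 1
  · exact mid 2
  · exact mid 3
  · exact two 6 7 rfl (by decide)
  · exact two 7 6 rfl (by decide)

end num

section good

variable {G : Type} [Group G] [Finite G] {F : Type} [Field F] [Fintype F] {t : G} {L V Y : Subgroup G} {m : ℕ} {ε : ℤ}

/-- the numerical data of `H191.EB515.exists_num`, with the Galois automorphism -/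
theorem exists_num' [Fintype (IrrCharacter G)] (h : Good F t L V Y m ε) {M : Ideal AlgInt} (hM : IsPModular 2 M) :
    ∃ (τ : Fin 4 → L → ℂ) (one : IrrCharacter G) (s : ℂ ≃+* ℂ), Tau M τ ∧
      NumBase (ε * Fintype.card F) (Nat.card G) deg (val t) (r t L τ) one (GalPerm.perm s) ∧
      ∀ ℓ : ℕ, ℓ.Prime → ℓ ∣ m → ∃ a b, NumTI (ε * Fintype.card F) (Nat.card G) deg (val t) (r t L τ) one
        (GalPerm.perm s) (ℓ ^ m.factorization ℓ) a b := by
  classical
  have := Fintype.ofFinite V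
  have := Fintype.ofFinite Y
  obtain ⟨τ, hτ, h1, h2, h3, hy1, hgal⟩ :=
    PSLTauMain.exists_tau h.iso m ε h.eps h.odd_m h.one_lt_m h.card_F M hM
  obtain ⟨p, hpF⟩ := CharP.exists F
  obtain ⟨n, hp, hn⟩ := FiniteField.card F p
  have : Fact p.Prime := ⟨hp⟩
  have hm0 : m ≠ 0 := by have := h.one_lt_m; omega
  obtain ⟨s, hs1', hs2⟩ := GalEx.exists_sigma_field (F := F) p h.eps h.odd_m h.card_F hm0
  have hpm : ¬ p ∣ m := by
    intro hpm
    have h1 : (p : ℤ) ∣ (Fintype.card F : ℤ) := by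
      rw [hn]
      exact_mod_cast dvd_pow_self p n.ne_zero
    have h2 : (p : ℤ) ∣ 4 * (m : ℤ) := Dvd.dvd.mul_left (by exact_mod_cast hpm) 4
    have h3 : (p : ℤ) ∣ ε := by
      have := dvd_sub h1 h2
      rwa [h.card_F, add_sub_cancel_left] at this
    have h4 : (p : ℤ) ∣ 1 := by
      rcases h.eps with h5 | h5 <;> rw [h5] at h3
      · exact h3
      · exact (dvd_neg.1 h3)
    have h5 : p ∣ 1 := by exact_mod_cast h4
    exact hp.one_lt.ne' (Nat.dvd_one.1 h5)
  have hs1 : ∀ ζ : ℂ, ζ ^ m = 1 → s ζ = ζ := fun ζ hζ => hs1' ζ m dvd_rfl hpm hζ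
  let one : IrrCharacter G := ⟨fun _ => 1, Blocks.Basic.isIrrCharacter_one⟩
  have hone : (one : G → ℂ) = fun _ => 1 := rfl
  refine ⟨τ, one, s, hτ, CharTI.numBase h hM hτ h1 h2 h3 hgal (one := one) rfl s hs2, ?_⟩
  intro ℓ hℓ hd
  obtain ⟨θ, hθ, hθ1⟩ := CharTI.exists_hom (A := Y)
    (fun a b => Subtype.ext ((SectionVal.hyp_LBlock h).Y_comm a a.2 b b.2)) hℓ
    (by rw [h.Y_card]; exact hd)
  obtain ⟨ψ, -, hψ⟩ := CharTI.exists_hom (A := V)
    (fun a b => Subtype.ext (DelLoc.comm_of_exp h.V_exp a.2 b.2)) Nat.prime_two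
    (by rw [h.V_card]; norm_num)
  have hT := TIInd.hyp_of_good h
  exact ⟨TIInd.vec V Y 1 θ, TIInd.vec V Y ψ θ, CharTI.numTI h hM hτ hy1 hℓ hd one s hs1 θ hθ hθ1 ψ hψ
    (TIInd.vec V Y 1 θ) (TIInd.vec V Y ψ θ) (hT.a_coe θ) (hT.b_coe ψ θ) (hT.a_one θ hθ1 hone)
      (hT.b_one ψ hψ θ hone) (hT.aa hℓ hd θ hθ hθ1) (hT.bb hℓ hd θ hθ hθ1 ψ hψ)
      (hT.ab hℓ hd θ hθ hθ1 ψ hψ) (hT.vec_deg 1 θ) (hT.vec_deg ψ θ) (hT.vec_val h.ord_t 1 θ)
      (hT.vec_val h.ord_t ψ θ)⟩

/-- **eight odd characters, fixed by the automorphisms of odd order modulo the inner ones** -/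
theorem f0_good (h : Good F t L V Y m ε) {U : Subgroup G} (hU : IsPGroup 2 U)
    (hC : IsPGroup 2 (centralizer (U : Set G))) {α : MulAut G} {n : ℕ} (hn : Odd n) {x : G}
    (hα : α ^ n = MulAut.conj x) : f0 α = 8 := by
  classical
  have : Finite (IrrCharacter G) := finite_irr
  have := Fintype.ofFinite (IrrCharacter G)
  obtain ⟨M, hM⟩ := Blocks.ExistsModular.exists_isPModular Nat.prime_two
  obtain ⟨τ, one, s, hτ, hb, ht⟩ := exists_num' h hM
  obtain ⟨hQ8, hQ5, hm⟩ := CharMain.Q_arith h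
  obtain ⟨e, δ, h8⟩ | ⟨e, δ, h7⟩ := pattern hb
  swap
  · exact (not_seven hQ8 hQ5 hm hb ht h7).elim
  have h1 : ∀ j, OI G (e j : G → ℂ) := fun j => ⟨(e j).2, by
    have h2 : Odd ((charDegree (e j : G → ℂ) : ℕ) : ℤ) := odd_of_eight hQ8 hb h8 _ ((h8.mem _).2 ⟨j, rfl⟩)
    exact_mod_cast h2⟩
  have h2 : ∀ (χ : G → ℂ) (hχ : OI G χ), ∃ j, e j = ⟨χ, hχ.1⟩ := fun χ hχ => (h8.mem _).1 (by
    by_contra hcon
    push Not at hcon
    have h1 := val_section hM (CharFinal.setup h) hτ _ (mem_principal hM hU hC hχ) 1 (by rw [orderOf_one]; norm_num)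
    rw [Subgroup.coe_one, mul_one, Finset.sum_eq_zero (fun i _ => by rw [hcon i]; simp)] at h1
    exact H404.VanishBlock.ne_zero_of_principal hM (mem_principal hM hU hC hχ) (index_centralizer h) h1)
  let π : IrrCharacter G → IrrCharacter G := fun χ => ⟨fun y => χ.1 (α y), isIrr_comp' α.toMonoidHom α.surjective χ.2⟩
  have h3 : ∀ (k : ℕ) (χ : IrrCharacter G) (y : G), (π^[k] χ).1 y = χ.1 ((α ^ k) y) := fun k => by
    induction k with
    | zero => exact fun _ _ => rfl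
    | succ k ih => exact fun χ y => by rw [Function.iterate_succ_apply, ih, pow_succ']; rfl
  have h4 : ∀ j, π (e j) = e j := by
    refine fix_of_eight hQ8 hQ5 hb h8 (fun a b hab => Subtype.ext (funext fun y => ?_))
      (fun j => h2 _ (oi_equiv α (h1 j))) (fun χ => ?_) (fun _ => rfl) hn fun χ => Subtype.ext (funext fun y => ?_)
    · obtain ⟨y, rfl⟩ := α.surjective y
      exact congrFun (congrArg Subtype.val hab) y
    · obtain ⟨c, hc⟩ := isConj_iff.1 (h.conj t (α t) h.ord_t (by rw [MulEquiv.orderOf_eq, h.ord_t]))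
      change ⌊(χ.1 (α t)).re⌋ = ⌊(χ.1 t).re⌋
      rw [← hc, isIrr_isClassFunction χ.2]
    · rw [h3, hα, MulAut.conj_apply, isIrr_isClassFunction χ.2]
  rw [f0_eq_of_all fun χ hχ y => ?_]
  · rw [← Nat.card_fin 8]
    refine (Nat.card_eq_of_bijective (fun j => (⟨_, h1 j⟩ : {χ : G → ℂ // OI G χ}))
      ⟨fun a b hab => h8.inj (Subtype.ext (congrArg Subtype.val hab :)), fun χ => ?_⟩).symm
    obtain ⟨j, hj⟩ := h2 _ χ.2
    exact ⟨j, Subtype.ext (congrArg Subtype.val hj :)⟩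
  · obtain ⟨j, hj⟩ := h2 _ hχ
    have h5 := h4 j
    rw [hj] at h5
    exact congrFun (congrArg Subtype.val h5) y

end good

section loc

variable {G : Type} [Group G] [Finite G]

omit [Finite G] in
theorem two_of_le {Q : Subgroup G} (hQ : IsPGroup 2 Q) (hC : centralizer (Q : Set G) ≤ Q) :
    IsPGroup 2 (centralizer (Q : Set G)) := hQ.to_le hC

/-- a normal elementary abelian Sylow subgroup of order eight -/
theorem k0_eight (P : Sylow 2 G) [(P : Subgroup G).Normal] (h8 : Nat.card (P : Subgroup G) = 8)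
    (h2 : ∀ x ∈ (P : Subgroup G), x * x = 1) (hC : centralizer ((P : Subgroup G) : Set G) ≤ P) : k0 G = 8 := by
  have := two_prime
  obtain ⟨M, hM⟩ := Blocks.ExistsModular.exists_isPModular Nat.prime_two
  have h1 : ∀ χ : IrrCharacter G, ¬ 2 ∣ charDegree (χ : G → ℂ) := fun χ e => P.not_dvd_index
    (e.trans (H142.McKayCount.charDegree_dvd_index _ (H608.KKL.comm_of_inv h2) χ))
  rw [k0_eq_card hM P.isPGroup' (two_of_le P.isPGroup' hC) (p := fun _ => True) fun χ _ =>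
    (true_iff _).mpr (Nat.odd_iff.2 (Nat.two_dvd_ne_zero.1 (h1 χ)))]
  simp only [and_true]
  refine (H608.KKL.C1 (fun M _ B _ _ _ _ χ _ => ?_) hM isPBlock_principal (isDefect_principal hM P) ⟨h8, h2⟩).1
  rw [blockHeight, Nat.factorization_eq_zero_of_not_dvd (h1 χ), Nat.zero_sub]

omit [Finite G] in
theorem mem_of_pow {H : Subgroup G} {a : G} (ha : a ∈ normalizer (H : Set G)) {n : ℕ} (hn : n.Coprime H.index)
    (h : a ^ n ∈ H) : a ∈ H := by
  have h1 : a ^ H.relIndex (normalizer (H : Set G)) ∈ H :=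
    (H.subgroupOf (normalizer (H : Set G))).pow_index_mem ⟨a, ha⟩
  have h2 : n.Coprime (H.relIndex (normalizer (H : Set G))) :=
    hn.coprime_dvd_right (relIndex_dvd_index_of_le le_normalizer)
  generalize H.relIndex (normalizer (H : Set G)) = k at h1 h2
  have h3 : a ^ (n * Nat.gcdA n k + k * Nat.gcdB n k) ∈ H := by
    rw [zpow_add, zpow_mul, zpow_mul, zpow_natCast, zpow_natCast]
    exact mul_mem (zpow_mem h _) (zpow_mem h1 _)
  rwa [← Nat.gcd_eq_gcd_ab, h2, Nat.cast_one, zpow_one] at h3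

/-- the automorphisms act on the normaliser as inner ones -/
theorem inner_on_norm {Q : Subgroup G} (h8 : Nat.card Q = 8) (h2 : ∀ x ∈ Q, x * x = 1)
    (hC : centralizer (Q : Set G) = Q) (hN : Nat.card (normalizer (Q : Set G)) = 168) {n : ℕ} (hn : Odd n)
    (hO : ∀ α : MulAut G, ∃ x, α ^ n = MulAut.conj x) {α : MulAut G} (hα : ∀ x, α x ∈ Q ↔ x ∈ Q) :
    ∃ w ∈ normalizer (Q : Set G), ∀ z ∈ normalizer (Q : Set G), α z = w * z * w⁻¹ := by
  have : Finite (MulAut Q) := Finite.of_injective (fun e : MulAut Q => (e : Q → Q)) DFunLike.coe_injective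
  have hx : ∀ β : MulAut G, (∀ x, β x ∈ Q ↔ x ∈ Q) → ∃ x ∈ normalizer (Q : Set G), β ^ n = MulAut.conj x :=
    fun β hβ => by
      obtain ⟨x, hx⟩ := hO β
      exact ⟨x, mem_norm_of (β := 1) (fun _ => Iff.rfl) (by rw [mul_one, ← hx]; exact stab_pow hβ n), hx⟩
  have h1 : Q.normalizerMonoidHom.range.index = 2 ^ 3 := by
    have h3 := Q.normalizerMonoidHom.range.card_mul_index
    have h4 := Q.normalizerMonoidHom.ker.card_mul_index
    rw [index_ker, normalizerMonoidHom_ker, hC, Nat.card_congr (subgroupOfEquivOfLe le_normalizer).toEquiv, h8,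
      hN] at h4
    rw [SmallSimple.S1000.FrameAut.card_mulAut (fun x : Q => Subtype.ext (h2 x x.2)) h8,
      show Nat.card Q.normalizerMonoidHom.range = 21 by omega] at h3
    omega
  obtain ⟨y, hy⟩ : res Q α hα ∈ Q.normalizerMonoidHom.range := by
    refine mem_of_pow (n := n) (mem_normalizer_fintype ?_) (h1 ▸ (Nat.coprime_two_right.2 hn).pow_right 3) ?_
    · rintro _ ⟨y, rfl⟩
      refine ⟨⟨α y, (stab_norm hα _).2 y.2⟩, MulEquiv.ext fun q => Subtype.ext ?_⟩
      change α y * q * (α y)⁻¹ = α (y * α⁻¹ q * (y : G)⁻¹)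
      simp
    · obtain ⟨x, h3, h4⟩ := hx α hα
      refine ⟨⟨x, h3⟩, MulEquiv.ext fun q => Subtype.ext ?_⟩
      rw [res_pow, h4]
      rfl
  let β : MulAut G := MulAut.conj (y : G)⁻¹ * α
  have h3 : ∀ q ∈ Q, β q = q := fun q hq => by
    have h4 : (y : G) * q * (y : G)⁻¹ = α q := congrArg Subtype.val (MulEquiv.congr_fun hy ⟨q, hq⟩)
    change (y : G)⁻¹ * α q * (y : G)⁻¹⁻¹ = q
    rw [← h4]
    group
  have h4 : ∀ z ∈ normalizer (Q : Set G), β (β z) = z := fun z hz => by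
    have h5 : z⁻¹ * β z ∈ Q := by
      rw [← hC, mem_centralizer_iff]
      intro q hq
      have h6 := h3 _ ((mem_normalizer_iff.1 hz q).1 hq)
      rw [map_mul, map_mul, map_inv, h3 q hq] at h6
      calc q * (z⁻¹ * β z) = z⁻¹ * (z * q * z⁻¹) * β z := by group
        _ = z⁻¹ * β z * q := by rw [← h6]; group
    calc β (β z) = β (z * (z⁻¹ * β z)) := by rw [mul_inv_cancel_left]
      _ = z * (z⁻¹ * β z * (z⁻¹ * β z)) := by rw [map_mul, h3 _ h5]; group
      _ = z := by rw [h2 _ h5, mul_one]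
  obtain ⟨x, h5, h6⟩ := hx β (stab_of_le fun q hq => by rwa [h3 q hq])
  obtain ⟨k, rfl⟩ := hn
  refine ⟨y * x, mul_mem y.2 h5, fun z hz => ?_⟩
  have h7 : ∀ j : ℕ, (β ^ (2 * j)) z = z := fun j => by
    induction j with
    | zero => rfl
    | succ j ih => rw [mul_add, mul_one, add_comm, pow_add, MulAut.mul_apply, ih, pow_two, MulAut.mul_apply, h4 z hz]
  have h9 : (y : G)⁻¹ * α z * (y : G)⁻¹⁻¹ = x * z * x⁻¹ := by
    rw [← MulAut.conj_apply x, ← h6, pow_succ', MulAut.mul_apply, h7]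
    rfl
  calc α z = y * ((y : G)⁻¹ * α z * (y : G)⁻¹⁻¹) * (y : G)⁻¹ := by group
    _ = _ := by rw [h9]; group

end loc

/-- **the Ree groups** -/
theorem sm_ree {K : Type} [Field K] [Fintype K] {m : ℕ} (hm : 1 ≤ m) (hK : Fintype.card K = 3 ^ (2 * m + 1))
    [Finite (Lie.twistedG2 K (3 ^ m))] : Sm (Lie.twistedG2 K (3 ^ m)) := by
  have := two_prime
  obtain ⟨hs, hc⟩ := S1073.result hm hK
  have hZ : center (Lie.twistedG2 K (3 ^ m)) = ⊥ :=
    (inferInstance : (center (Lie.twistedG2 K (3 ^ m))).Normal).eq_bot_or_eq_top.resolve_right fun e =>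
      hc ⟨⟨fun a b => mem_center_iff.1 (e ▸ mem_top b) a⟩⟩
  obtain ⟨a, h1, h2, h3⟩ := S1157.exists_involution hK
  let Q : Sylow 2 (Lie.twistedG2 K (3 ^ m)) := default
  obtain ⟨h4, h5⟩ := (S1152.result hK a h1 h2 h3).2 Q
  obtain ⟨h6, h7⟩ := S1157.result hm hK Q
  have hO : ∀ α : MulAut (Lie.twistedG2 K (3 ^ m)), ∃ x, α ^ (2 * m + 1) = MulAut.conj x := fun α => by
    have h8 : ((α ^ (2 * m + 1) : MulAut (Lie.twistedG2 K (3 ^ m))) : Out (Lie.twistedG2 K (3 ^ m))) = 1 := by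
      rw [QuotientGroup.mk_pow, ← S2127.result hm hK, pow_card_eq_one']
    exact ((QuotientGroup.eq_one_iff _).1 h8).imp fun _ => Eq.symm
  obtain ⟨F, _, _, t, L, V, Y, n, ε, hg⟩ := exists_good (S := Lie.twistedG2 K (3 ^ m)) ⟨K, _, _, m, hm, hK, ⟨.refl _⟩⟩
  refine sm_of_cyc hZ (H389.RSq.ReeExt.isCyclic_out hm hK) Q fun α hα => ?_
  obtain ⟨x, hx⟩ := hO α
  obtain ⟨w, h8, h9⟩ := inner_on_norm h4 h5 h6 h7 (odd_two_mul_add_one m) hO hα
  rw [f0_good hg Q.isPGroup' (two_of_le Q.isPGroup' h6.le) (odd_two_mul_add_one m) hx,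
    fN_eq_f0 (β := MulAut.conj ⟨w, h8⟩) fun y => (h9 y y.2).symm, f0_conj]
  have : (Q.subtype (le_normalizer (H := Q.toSubgroup))).toSubgroup.Normal := normal_in_normalizer (H := Q.toSubgroup)
  refine (k0_eight (Q.subtype le_normalizer) ?_ (fun x hx => Subtype.ext (h5 _ hx)) fun x hx => ?_).symm
  · rw [Sylow.coe_subtype, Nat.card_congr (subgroupOfEquivOfLe le_normalizer).toEquiv, h4]
  · refine h6.le (mem_centralizer_iff.2 fun q hq => ?_)
    exact congrArg Subtype.val (mem_centralizer_iff.1 hx ⟨q, le_normalizer hq⟩ hq)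

/-- **the row of the Ree groups** -/
theorem row_ree (h : Steps) : Row fun S _ => Lie.IsoRee S := by
  intro X _ _ c Γ s
  obtain ⟨K, _, _, m, hm, hK, ⟨e⟩⟩ := c.fam
  have : Finite (Lie.twistedG2 K (3 ^ m)) := Finite.of_equiv _ e.toEquiv
  exact S.gd_of_two h.sm c s ⟨e⟩ (k := 0) (S2113.result hm hK) fun _ => sm_ree hm hK

end Cfsg.Agent.MK.L
end

-- part: MK/S/Row
section
set_option linter.all false

/-!
# MK: the sporadic row from the small rows (helper47)
-/

set_option autoImplicit false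

namespace Cfsg.Agent.MK.S

open Cfsg Cfsg.Spor Subgroup Cfsg.Agent.ODD

/-- **`Box.spor` from the small rows.** -/
theorem row_spor (hs : StepSm) (h : SporIn) : Row fun S _ => IsSporadicGroup S := by
  intro X _ _ c Γ s
  rcases c.fam with e | e | e | e | e | e | e | ⟨F, _, _, ω, hF, hω, e⟩ | e | e | e | e | e | e | e | e | e | e | e | e |
    e | e | e | e | e | e
  · exact gd_of_two hs c s e (k := 0) S2034.result h.m11
  · exact gd_of_two hs c s e (k := 1) S2035.result h.m12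
  · exact gd_of_three hs c s e (k := 2) S2036.result (by norm_num) h.m22 h.m223
  · exact gd_of_two hs c s e (k := 0) S2037.result h.m23
  · exact gd_of_two hs c s e (k := 0) S2038.result h.m24
  · exact gd_of_two hs c s e (k := 0) S2039.result h.j1
  · exact gd_of_two hs c s e (k := 1) S2040.result h.j2
  · exact gd_of_three hs c s e (k := 0) (S2041.result hF ω hω) (by norm_num) (h.j3 F ω hF hω) (h.j33 F ω hF hω)
  · exact gd_of_two hs c s e (k := 0) S2042.result h.j4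
  · exact gd_of_two hs c s e (k := 1) S2043.result h.co1
  · exact gd_of_two hs c s e (k := 0) S2044.result h.co2
  · exact gd_of_two hs c s e (k := 0) S2045.result h.co3
  · exact gd_of_three hs c s e (k := 0) S2047.result (by norm_num) h.mcl h.mcl3
  · exact gd_of_two hs c s e (k := 1) S2046.result h.hs
  · exact gd_of_three hs c s e (k := 1) S2048.result (by norm_num) h.suz h.suz3
  · exact gd_of_two hs c s e (k := 0) S2049.result h.he
  · exact gd_of_two hs c s e (k := 1) S2051.result h.ru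
  · exact gd_of_three hs c s e (k := 0) S2052.result (by norm_num) h.on h.on3
  · exact gd_of_two hs c s e (k := 0) S2050.result h.ly
  · exact gd_of_three hs c s e (k := 1) S2053.result (by norm_num) h.fi22 h.fi223
  · exact gd_of_two hs c s e (k := 0) S2054.result h.fi23
  · exact gd_of_three hs c s e (k := 0) S2055.result (by norm_num) h.fi24 h.fi243
  · exact gd_of_two hs c s e (k := 0) S2056.result h.hn
  · exact gd_of_two hs c s e (k := 0) S2057.result h.th
  · exact gd_of_two hs c s e (k := 1) S2058.result h.b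
  · exact gd_of_two hs c s e (k := 0) S2059.result h.m

end Cfsg.Agent.MK.S
end

-- part: MK/S/F4K
section
set_option linter.all false
open scoped Cfsg.Agent.FastGrp

/-!
# MK: polycyclic certificates for the Sylow `2`-subgroups of `F₄(2)` and of its automorphism group (helper47)
-/

set_option autoImplicit false
set_option maxRecDepth 100000
set_option maxHeartbeats 400000

namespace Cfsg.Agent.MK.S.F4

open Cfsg Subgroup Cfsg.Agent.MK.T Cfsg.Agent.MK.S.Pc

section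

variable {G : Type} [Group G]

theorem two_mul_le [Finite G] {H K : Subgroup G} (h : H ≤ K) {a : G} (h1 : a ∈ K) (h2 : a ∉ H) :
    2 * Nat.card H ≤ Nat.card K := by
  obtain ⟨c, hc⟩ := card_dvd_of_le h
  have h3 : c ≠ 0 := fun h4 => (Nat.card_pos (α := K)).ne' (by rw [hc, h4, mul_zero])
  have h4 : c ≠ 1 := fun h4 => h2 (eq_of_le_of_card_ge h (by rw [hc, h4, mul_one]) ▸ h1)
  rw [hc, mul_comm]
  exact Nat.mul_le_mul_left _ (by omega)

/-- the letters: inner automorphisms and one more -/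
def yA (x : ℕ → G) (γ : MulAut G) (r : ℕ) : MulAut G := if r = 48 then γ else MulAut.conj (x r)

/-- the inner part of a word -/
def nf (b : ℕ → ℕ) (w : List ℕ) : List ℕ := w.foldr (fun r v => bif Nat.beq r 48 then v.map b else r :: v) []

/-- the parity of a word -/
def par (w : List ℕ) : Bool := w.foldr (fun r v => bif Nat.beq r 48 then !v else v) false

variable {x : ℕ → G} {γ : MulAut G} {b : ℕ → ℕ}

theorem map_ev (hb : ∀ r < 48, γ (x r) = x (b r)) : ∀ w : List ℕ, (∀ r ∈ w, r < 48) → γ (ev x w) = ev x (w.map b)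
  | [], _ => map_one γ
  | r :: w, h => by
    rw [List.map_cons, ev_cons, ev_cons, map_mul, hb r (h r List.mem_cons_self),
      map_ev hb w fun s hs => h s (List.mem_cons_of_mem _ hs)]

theorem ev_nf (hb : ∀ r < 48, γ (x r) = x (b r)) (hl : ∀ r < 48, b r < 48) (hγ : γ * γ = 1) :
    ∀ w : List ℕ, (∀ r ∈ w, r < 49) → (∀ r ∈ nf b w, r < 48) ∧
      ev (yA x γ) w = MulAut.conj (ev x (nf b w)) * (bif par w then γ else 1)
  | [], _ => ⟨fun _ h => (by cases h), by simp [ev_nil, nf, par]⟩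
  | r :: w, h => by
    obtain ⟨h1, h2⟩ := ev_nf hb hl hγ w fun s hs => h s (List.mem_cons_of_mem _ hs)
    by_cases hr : r = 48
    · subst hr
      have e1 : nf b (48 :: w) = (nf b w).map b := rfl
      have e2 : par (48 :: w) = !par w := rfl
      have e3 : yA x γ 48 = γ := if_pos rfl
      rw [e1, e2, ev_cons, h2, e3, ← map_ev hb _ h1, conj_map]
      refine ⟨fun s hs => ?_, ?_⟩
      · obtain ⟨t, ht, rfl⟩ := List.mem_map.1 hs
        exact hl t (h1 t ht)
      · cases par w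
        · simp
        · rw [inv_eq_of_mul_eq_one_right hγ]
          simp [mul_assoc]
    · have e0 : Nat.beq r 48 = false := by
        rw [Bool.eq_false_iff, Ne, Nat.beq_eq]
        exact hr
      have e1 : nf b (r :: w) = r :: nf b w := by
        show (bif Nat.beq r 48 then _ else _) = _
        rw [e0]
        rfl
      have e2 : par (r :: w) = par w := by
        show (bif Nat.beq r 48 then _ else _) = _
        rw [e0]
        rfl
      have e3 : yA x γ r = MulAut.conj (x r) := if_neg hr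
      rw [e1, e2, ev_cons, ev_cons, h2, e3, map_mul, mul_assoc]
      refine ⟨fun s hs => ?_, rfl⟩
      rcases List.mem_cons.1 hs with rfl | hs
      · have := h s List.mem_cons_self
        omega
      · exact h1 s hs

/-- the test for words in the automorphism group -/
def eqA (b : ℕ → ℕ) (e : List ℕ → List ℕ → Bool) (v w : List ℕ) : Bool :=
  (v.all fun i => Nat.blt i 49) && (w.all fun i => Nat.blt i 49) && (par v == par w) && e (nf b v) (nf b w)

theorem eqA_spec (hb : ∀ r < 48, γ (x r) = x (b r)) (hl : ∀ r < 48, b r < 48) (hγ : γ * γ = 1)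
    {e : List ℕ → List ℕ → Bool} (he : ∀ v w, e v w = true → ev x v = ev x w) (v w : List ℕ)
    (h : eqA b e v w = true) : ev (yA x γ) v = ev (yA x γ) w := by
  simp only [eqA, Bool.and_eq_true, List.all_eq_true, Nat.blt_eq, beq_iff_eq] at h
  obtain ⟨⟨⟨h1, h2⟩, h3⟩, h4⟩ := h
  rw [(ev_nf hb hl hγ v h1).2, (ev_nf hb hl hγ w h2).2, h3, he _ _ h4]

theorem mem_of_word {Γ : Type} [Group Γ] {y : ℕ → Γ} {e : List ℕ → List ℕ → Bool}
    (he : ∀ v w, e v w = true → ev y v = ev y w) {c : Cert} {n r : ℕ} {w : List ℕ} (h1 : inR 0 n w = true)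
    (h2 : e [r] (c.ex w) = true) : y r ∈ V (c.el y) n 0 := by
  have h3 := he _ _ h2
  rw [ev_cons, ev_nil, mul_one, c.ev_ex] at h3
  rw [h3]
  exact inR_mem h1

theorem a2_of [Finite G] {P : Subgroup G} {n k m : ℕ} (h1 : Nat.card P = 2 ^ n) (h2 : Nat.card G = 2 ^ n * k)
    (hk : ¬ 2 ∣ k) (h3 : (_root_.commutator P).index = m) : a2 G = m := by
  have := two_prime
  have h4 : P.index = k := by
    have h5 := card_mul_index P
    rw [h1, h2] at h5
    exact Nat.eq_of_mul_eq_mul_left (Nat.two_pow_pos n) h5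
  rw [← ab_sylow ((IsPGroup.of_card h1).toSylow (h4 ▸ hk))]
  exact h3

/-- the automorphism group -/
theorem a2_aut [Finite G] (hZ : center G = ⊥) (hi : (MulAut.conj : G →* MulAut G).range.index = 2)
    (hn : γ ∉ (MulAut.conj : G →* MulAut G).range) {U : Subgroup G} {n k m : ℕ} (h1 : Nat.card U = 2 ^ n)
    (h2 : Nat.card G = 2 ^ n * k) (hk : ¬ 2 ∣ k) {g : ℕ → MulAut G} (h : PC g (n + 1) m)
    (h3 : U.map MulAut.conj ≤ V g (n + 1) 0) (h4 : γ ∈ V g (n + 1) 0) : a2 (MulAut G) = 2 ^ m := by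
  have h5 := two_mul_le h3 h4 fun h6 => hn (map_le_range _ _ h6)
  rw [card_map_of_injective (conj_inj hZ), h1, ← pow_succ'] at h5
  refine a2_of (h.card_eq h5 (Nat.zero_le _)) (k := k) ?_ hk (h.index h5)
  rw [← card_mul_index (MulAut.conj : G →* MulAut G).range, hi,
    ← Nat.card_congr (MonoidHom.ofInjective (conj_inj hZ)).toEquiv, h2, Nat.sub_zero, pow_succ, mul_right_comm]

end

open Cfsg.Agent.FourTwo Cfsg.Agent.FourTwo.Base Cfsg.Agent.TAB.F42.G

/-- the test for words -/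
noncomputable def eqv (v w : List ℕ) : Bool := wdF (v ++ w.reverse) oneB

theorem eqv_spec (v w : List ℕ) (h : eqv v w = true) : ev x v = ev x w := by
  obtain ⟨R, h1, h2⟩ := wdF_spec (v ++ w.reverse)
  rw [eqv, h2, oneB_iff h1, wd_append, wd_rev, mul_inv_eq_one] at h
  exact h

/-- the series of the Sylow subgroup -/
def cU : Cert where
  gw := [[33], [27], [25], [24], [28], [28, 30], [34], [26], [41], [31], [35], [29], [37], [36], [38], [32], [42],
    [39], [43], [40], [44], [45], [46], [47]]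
  sq := []
  cm := [[[], [6], [], [], [10], [8, 10, 12], [], [], [], [14, 16], [], [13], [], [], [], [17, 18], [], [], [], [20]],
    [[], [], [5], [], [], [], [], [9, 11], [], [], [12], [], [], [14], [], [], [], [19], [20, 21]], [[], [], [], [7],
    [], [], [8, 10], [], [], [15], [], [], [], [], [17, 23], [], [18], [], [], [], [], [22]], [[], [], [], [], [11,
    15], [9, 11, 15], [], [], [16], [], [13, 18], [], [14, 21], [], [], [], [], [], [], [], [], [], [23]], [[], [],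
    [], [], [], [], [12], [], [], [], [], [], [], [17], [19], [], [20, 22]], [[], [], [], [], [], [], [12], [15], [],
    [], [], [], [], [17, 19, 23], [19], [], [20, 21, 22], [], [22]], [[], [], [], [], [], [], [], [13, 16], [], [],
    [], [14], [], [], [], [19, 21], [], [20]], [[], [], [], [], [], [], [], [], [18], [], [], [], [17, 22], [], [],
    [], [], [], [], [], [], [23]], [[], [], [], [], [], [], [], [], [], [21], [], [20, 23], [], [], [], [22]], [[],
    [], [], [], [], [], [], [], [], [], [19, 22], [], [], [], [], [], [], [], [23]], [[], [], [], [], [], [], [], [],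
    [], [], [], [17], [], [], [20]], [[], [], [], [], [], [], [], [], [], [], [], [], [19]], [[], [], [], [], [], [],
    [], [], [], [], [], [], [], [20]], [], [], [[], [], [], [], [], [], [], [], [], [], [], [], [], [], [], [], [23]]]
  dv := [([], [], []), ([], [], []), ([], [], []), ([], [], []), ([], [], []), ([1], [2], []), ([0], [1], []), ([2],
    [3], []), ([2], [6], [10]), ([1], [7], [11]), ([0], [4], []), ([3], [4], [15]), ([1], [10], []), ([0], [11], []),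
    ([1], [13], []), ([2], [9], []), ([3], [8], []), ([4], [13], []), ([2], [16], []), ([1], [17], []), ([0], [19],
    []), ([8], [9], []), ([2], [21], []), ([3], [22], [])]

/-- the series of the Sylow subgroup of the automorphism group -/
def cA : Cert where
  gw := [[48], [33], [27], [28], [33, 24], [27, 25], [28, 30], [34], [26], [41], [31], [35], [29], [37], [36], [38],
    [32], [42], [39], [43], [40], [44], [45], [46], [47]]
  sq := [[], [], [], [], [], [6]]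
  cm := [[[], [4], [5, 6], [6], [], [6], [], [7, 8, 14, 17], [7, 8], [9, 12, 21, 24], [10, 11, 20, 23], [10, 11], [9,
    12], [13, 16], [14, 17], [15, 19], [13, 16], [14, 17], [18, 22], [15, 19], [20, 23], [21, 24], [18, 22], [20, 23],
    [21, 24]], [[], [], [7], [11], [], [7], [9, 11, 13], [], [], [], [15, 17], [], [14], [], [], [], [18, 19], [], [],
    [], [21]], [[], [], [], [], [7], [6], [], [], [10, 12], [], [], [13], [], [], [15], [], [], [], [20], [21, 22]],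
    [[], [], [], [], [11, 12, 14, 16, 18, 19], [], [], [13], [], [], [], [], [], [], [18], [20], [], [21, 23]], [[],
    [], [], [], [], [7, 8, 10, 12], [9, 10, 11, 12, 13, 14, 15, 16, 17, 19, 21, 22, 23], [], [], [17], [15, 17], [14,
    19], [14], [15, 22], [], [], [18, 19], [], [], [], [21], [], [], [24]], [[], [], [], [], [], [], [], [9, 11, 13],
    [10, 12], [], [16], [13], [], [], [15], [18, 20, 24], [], [19, 21, 22], [20], [21, 22], [], [], [23]], [[], [],
    [], [], [], [], [], [13], [16], [], [], [], [], [], [18, 20, 24], [20], [], [21, 22, 23], [], [23]], [[], [], [],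
    [], [], [], [], [], [14, 17], [], [], [], [15], [], [], [], [20, 22], [], [21]], [[], [], [], [], [], [], [], [],
    [], [19], [], [], [], [18, 23], [], [], [], [], [], [], [], [], [24]], [[], [], [], [], [], [], [], [], [], [],
    [22], [], [21, 24], [], [], [], [23]], [[], [], [], [], [], [], [], [], [], [], [], [20, 23], [], [], [], [], [],
    [], [], [24]], [[], [], [], [], [], [], [], [], [], [], [], [], [18], [], [], [21]], [[], [], [], [], [], [], [],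
    [], [], [], [], [], [], [20]], [[], [], [], [], [], [], [], [], [], [], [], [], [], [], [21]], [], [], [[], [],
    [], [], [], [], [], [], [], [], [], [], [], [], [], [], [], [24]]]
  dv := [([], [], []), ([], [], []), ([], [], []), ([], [], []), ([0], [1], []), ([0], [2], [6]), ([0], [3], []),
    ([1], [2], []), ([4], [0, 2], []), ([0], [12], [12]), ([0], [11], [11]), ([1], [3], []), ([3], [1, 4], [16]),
    ([2], [11], []), ([1], [12], []), ([2], [14], []), ([5], [10], []), ([4], [9], []), ([3], [14], []), ([8], [9],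
    []), ([2], [18], []), ([1], [20], []), ([9], [10], []), ([5], [22], []), ([4], [23], [])]

/-- the letters as words in the series -/
def yU : List (List ℕ) :=
  [[3], [2], [7], [1], [4], [11], [4, 5], [9], [15], [0], [6], [10], [13], [12], [14], [17], [19], [8], [16], [18],
    [20], [21], [22], [23]]

/-- the letters as words in the series -/
def yW : List (List ℕ) :=
  [[1, 4], [2, 5], [8], [2], [3], [12], [3, 6], [10], [16], [1], [7], [11], [14], [13], [15], [18], [20], [9], [17],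
    [19], [21], [22], [23], [24], [0]]

private def tT : List (List (ℕ × ℕ)) :=
  [[(26, 67108863), (30, 512), (35, 32), (38, 8), (40, 4), (43, 2), (48, 1)],
   [(26, 67108863), (29, 1024), (34, 64), (37, 16), (41, 4), (44, 2), (49, 1)],
   [(26, 67108863), (28, 2048), (33, 128), (38, 16), (40, 8), (45, 2), (50, 1)],
   [(14, 33554432), (26, 67108863), (32, 256), (34, 128), (36, 64), (38, 33), (39, 1), (40, 16), (42, 8), (44, 4), (46, 2)],
   [(15, 16777216), (26, 67108863), (33, 256), (37, 1), (38, 64), (40, 32), (45, 4)],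
   [(16, 8388608), (26, 67108863), (34, 256), (36, 1), (37, 128), (41, 32), (44, 8)],
   [(17, 4194304), (26, 67108863), (35, 257), (38, 128), (40, 64), (43, 16)],
   [(15, 33554432), (18, 2097152), (26, 67108863), (28, 4096), (30, 2048), (32, 1024), (34, 513), (37, 2), (39, 2), (44, 16), (46, 8), (48, 4), (50, 2)],
   [(16, 16777216), (19, 1048576), (26, 67108863), (29, 4096), (33, 1), (34, 1024), (36, 514), (39, 4), (42, 64), (44, 32), (49, 4)],
   [(17, 8388608), (20, 524288), (26, 67108863), (30, 4096), (32, 1), (33, 2048), (35, 2), (37, 512), (39, 8), (41, 128), (45, 32), (48, 8)],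
   [(18, 4194304), (21, 262144), (26, 67108863), (31, 4097), (34, 2050), (36, 1024), (39, 16), (42, 128), (44, 64), (47, 16)],
   [(18, 25165824), (19, 33554432), (22, 131072), (26, 67108863), (30, 1), (32, 4096), (33, 32), (34, 12), (38, 512), (39, 32), (40, 256), (46, 32)],
   [(19, 20971520), (20, 33554432), (23, 65536), (26, 67108863), (29, 1), (32, 64), (33, 4116), (37, 1024), (39, 64), (41, 256), (45, 64)],
   [(20, 12582912), (21, 33554432), (24, 32768), (26, 67108863), (28, 1), (31, 128), (32, 24), (34, 4096), (36, 2048), (39, 128), (42, 256), (44, 128)],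
   [(22, 29360128), (25, 16384), (26, 67108863), (27, 1), (30, 224), (35, 4096), (39, 256), (43, 256)],
   [(20, 3145728), (26, 67108863), (32, 6), (38, 1024), (40, 512)],
   [(21, 2621440), (26, 67108863), (31, 10), (37, 2048), (41, 512)],
   [(22, 2359296), (26, 67108863), (30, 18), (38, 2048), (40, 1024)],
   [(22, 1572864), (23, 35782656), (26, 67108863), (29, 546), (30, 12), (39, 512)],
   [(23, 1310720), (24, 35717120), (26, 67108863), (28, 1090), (29, 20), (39, 1024)],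
   [(24, 786432), (25, 35684352), (26, 67108863), (27, 2178), (28, 24), (39, 2048)],
   [(24, 17956864), (26, 67108863), (28, 548)],
   [(25, 17891328), (26, 67108863), (27, 1092)],
   [(25, 9043968), (26, 67108863), (27, 552)],
   [(25, 1104), (26, 67108863), (27, 4521984)],
   [(25, 2184), (26, 67108863), (27, 8945664)],
   [(24, 2192), (26, 67108863), (28, 4489216)],
   [(12, 33554432), (13, 16777216), (14, 16777216), (24, 96), (25, 260), (26, 67108863), (27, 1064960), (28, 196608)],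
   [(11, 33554432), (13, 8388608), (15, 8388608), (23, 160), (24, 264), (26, 67108863), (28, 540672), (29, 163840)],
   [(10, 33554432), (13, 4194304), (16, 4194304), (22, 192), (23, 272), (26, 67108863), (29, 278528), (30, 98304)],
   [(12, 16777216), (14, 8388608), (22, 288), (26, 67108863), (30, 147456)],
   [(11, 16777216), (15, 4194304), (21, 320), (26, 67108863), (31, 81920)],
   [(12, 8388608), (14, 4194304), (20, 384), (26, 67108863), (32, 49152)],
   [(13, 2097152), (22, 7680), (25, 2), (26, 67108863), (27, 8192), (30, 3932160)],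
   [(8, 33554432), (10, 16777216), (13, 1048576), (16, 2097152), (18, 1048576), (20, 1536), (21, 4096), (24, 4), (26, 67108863), (28, 8192), (31, 1048576), (32, 196608)],
   [(7, 33554432), (11, 8388608), (13, 524288), (15, 2097152), (19, 526848), (20, 4096), (23, 8), (26, 67108863), (29, 8192), (32, 524288), (33, 163840)],
   [(6, 33554432), (12, 4194304), (13, 262144), (14, 2097152), (18, 3072), (19, 4096), (20, 262144), (22, 16), (26, 67108863), (30, 8192), (33, 262144), (34, 98304)],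
   [(8, 16777216), (10, 8388608), (13, 131072), (16, 1048576), (18, 528896), (21, 32), (26, 67108863), (31, 8192), (34, 147456)],
   [(7, 16777216), (11, 4194304), (13, 65536), (15, 1048576), (17, 5120), (19, 262144), (20, 64), (26, 67108863), (32, 8192), (35, 81920)],
   [(8, 8388608), (10, 4194304), (13, 32768), (16, 530432), (18, 262144), (19, 128), (26, 67108863), (33, 8192), (36, 49152)],
   [(2, 33554432), (4, 16777216), (6, 8388608), (8, 4194304), (13, 16384), (15, 4096), (18, 131328), (20, 65536), (22, 32768), (24, 16384), (26, 67108863), (34, 8192), (37, 16384)],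
   [(9, 2097152), (12, 1048576), (14, 524288), (17, 131584), (26, 67108863), (35, 8192)],
   [(8, 2097152), (11, 1048576), (15, 262144), (16, 1024), (18, 65536), (26, 67108863), (36, 8192)],
   [(7, 2097152), (12, 524288), (14, 262144), (15, 2048), (19, 32768), (26, 67108863), (37, 8192)],
   [(1, 33554432), (6, 2097152), (8, 1048576), (10, 524288), (12, 262144), (13, 8192), (14, 131072), (16, 65536), (18, 32768), (20, 16384), (25, 8192), (26, 67108863)],
   [(2, 16777216), (7, 1048576), (12, 131072), (14, 65536), (19, 16384), (24, 8192), (26, 67108863)],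
   [(3, 8388608), (8, 524288), (11, 131072), (15, 32768), (18, 16384), (23, 8192), (26, 67108863)],
   [(4, 4194304), (9, 262144), (12, 65536), (14, 32768), (17, 16384), (22, 8192), (26, 67108863)]]

private noncomputable def tb (r : ℕ) : List (ℕ × ℕ) := tT.getD r [(26, 67108863)]

private def rep : ℕ := 0x40000010000004000001000000400000100000040000010000004000001000000400000100000040000010000004000001000000400000100000040000010000004000001000000400000100000040000010000004000001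

private def q0 : ℕ := 0x8000001000000200000040000008000001000000200000040000008000001000000200000040000008000001000000200000040000008000001000000200000040000008000001000000200000040000008000001d6b1ba6b5e9d3

private def ln (c X : ℕ) : ℕ := Nat.mod (Nat.shiftRight X (Nat.mul 26 c)) 67108864

private theorem ln_bit (c X i : ℕ) : (ln c X).testBit i = (decide (i < 26) && X.testBit (26 * c + i)) := by
  show (X >>> (26 * c) % 2 ^ 26).testBit i = _
  rw [Nat.testBit_mod_two_pow, Nat.testBit_shiftRight]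

private noncomputable def stp (k : ℕ) (l : List (ℕ × ℕ)) (Q : ℕ) : ℕ :=
  List.rec 0 (fun p _ ih => Nat.xor (Nat.land (Nat.shiftRight (Nat.shiftLeft Q 26) p.1) (Nat.mul p.2 k)) ih) l

private theorem stp_xor (k a b : ℕ) : ∀ l, stp k l (a ^^^ b) = stp k l a ^^^ stp k l b
  | [] => (Nat.xor_self 0).symm
  | p :: l => by
    show ((a ^^^ b) <<< 26 >>> p.1 &&& p.2 * k) ^^^ stp k l (a ^^^ b) =
      (a <<< 26 >>> p.1 &&& p.2 * k) ^^^ stp k l a ^^^ ((b <<< 26 >>> p.1 &&& p.2 * k) ^^^ stp k l b)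
    rw [stp_xor k a b l, Nat.shiftLeft_xor_distrib, Nat.shiftRight_xor_distrib, Nat.and_xor_distrib_right]
    ac_rfl

private noncomputable def okp (p : ℕ × ℕ) : Bool :=
  Nat.beq (Nat.land p.2 (Nat.shiftRight (Nat.shiftLeft 67108863 26) p.1)) p.2 &&
    (List.range 28).all fun c => Nat.beq (ln c (Nat.mul p.2 rep)) p.2

private theorem stp_ln {c : ℕ} (hc : c < 28) (Q : ℕ) : ∀ l : List (ℕ × ℕ), l.all okp = true →
    ln c (stp rep l Q) = stp 1 l (ln c Q)
  | [], _ => by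
    show 0 >>> (26 * c) % 67108864 = 0
    rw [Nat.zero_shiftRight]
  | p :: l, h => by
    rw [List.all_cons, Bool.and_eq_true, okp, Bool.and_eq_true] at h
    have h1 : p.2 &&& (2 ^ 26 - 1) <<< 26 >>> p.1 = p.2 := Nat.eq_of_beq_eq_true h.1.1
    have h2 : ln c (p.2 * rep) = p.2 :=
      Nat.eq_of_beq_eq_true (List.all_eq_true.1 h.1.2 c (List.mem_range.2 hc))
    show ln c ((Q <<< 26 >>> p.1 &&& p.2 * rep) ^^^ stp rep l Q) =
      (ln c Q <<< 26 >>> p.1 &&& p.2 * 1) ^^^ stp 1 l (ln c Q)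
    rw [← stp_ln hc Q l h.2, Nat.mul_one]
    refine Nat.eq_of_testBit_eq fun i => ?_
    have h3 := congrArg (fun x => x.testBit i) h1
    have h4 := congrArg (fun x => x.testBit i) h2
    simp only [ln_bit, Nat.testBit_xor, Nat.testBit_and, Nat.testBit_shiftRight, Nat.testBit_shiftLeft,
      Nat.testBit_two_pow_sub_one] at h3 h4 ⊢
    by_cases hi : i < 26
    · rw [decide_eq_true hi, Bool.true_and] at h4
      rw [h4, decide_eq_true hi, Bool.true_and, Bool.true_and]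
      cases h5 : p.2.testBit i
      · rw [Bool.and_false, Bool.and_false]
      · rw [h5, Bool.true_and, Bool.and_eq_true, decide_eq_true_eq, decide_eq_true_eq] at h3
        rw [decide_eq_true h3.1, decide_eq_true h3.2, decide_eq_true (show p.1 + (26 * c + i) ≥ 26 by omega),
          show p.1 + (26 * c + i) - 26 = 26 * c + (p.1 + i - 26) by omega, Bool.true_and, Bool.true_and]
    · rw [decide_eq_false hi, Bool.false_and] at h4
      rw [← h4, decide_eq_false hi, Bool.false_and, Bool.false_and, Bool.and_false]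
      rfl

private theorem _root_.Cfsg.Agent.KO758f306.e0.{ku, kv} {α : Type kv} {M : List α → Sort ku} (φ : ∀ l, M l) {z : M List.nil} {s : ∀ a l, M l → M (List.cons a l)} (h0 : φ List.nil = z) (hs : ∀ a l, φ (List.cons a l) = s a l (φ l)) (l : List α) : φ l = @List.rec α M z s l := List.rec h0 (fun a l ih => (hs a l).trans (congrArg (s a l) ih)) l
private noncomputable def _root_.Cfsg.Agent.KO758f306.k1.{ku0} : type_of% @List.all.{ku0} := @(fun x0 x1 x2 => @List.rec.{(ku0+1), ku0} @x0 @(fun x3 => (@x0 → @Bool) → @Bool) @(fun x3 => @Bool.true) @(fun x3 x4 x5 x6 => @Bool.rec.{1} @(fun x7 => @Bool) @Bool.false (@x5 @x6) (@x6 @x3)) @x1 @x2)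
private theorem _root_.Cfsg.Agent.KO758f306.e1.{ku0} : @List.all.{ku0} = @_root_.Cfsg.Agent.KO758f306.k1.{ku0} := by delta _root_.Cfsg.Agent.KO758f306.k1; funext a0 a1 a2; refine (congrFun (_root_.Cfsg.Agent.KO758f306.e0 (fun a1 a2 => @List.all.{ku0} a0 a1 a2) ?_ (fun c0 c1 => ?_) a1) a2 :) <;> (rfl')
private theorem _root_.Cfsg.Agent.KO758f306.e2.{ku} {M : Nat → Sort ku} (φ : ∀ n, M n) {z : M Nat.zero} {s : ∀ n, M n → M (Nat.succ n)} (h0 : φ Nat.zero = z) (hs : ∀ n, φ (Nat.succ n) = s n (φ n)) (n : Nat) : φ n = @Nat.rec M z s n := Nat.rec h0 (fun n ih => (hs n).trans (congrArg (s n) ih)) n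
private noncomputable def _root_.Cfsg.Agent.KO758f306.k3 : type_of% @List.range.loop := @(fun x0 x1 => @Nat.rec.{1} @(fun x2 => (@List.{0} ℕ) → @List.{0} ℕ) @(fun x2 => @x2) @(fun x2 x3 x4 => @x3 (@x2 :: @x4)) @x0 @x1)
private theorem _root_.Cfsg.Agent.KO758f306.e3 : @List.range.loop = @_root_.Cfsg.Agent.KO758f306.k3 := by delta _root_.Cfsg.Agent.KO758f306.k3; funext a0 a1; refine (congrFun (_root_.Cfsg.Agent.KO758f306.e2 (fun a0 a1 => @List.range.loop a0 a1) ?_ (fun c0 => ?_) a0) a1 :) <;> (rfl')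
private noncomputable def _root_.Cfsg.Agent.KO758f306.k4 : type_of% @List.range := @(fun x0 => @Cfsg.Agent.KO758f306.k3 @x0 [])
private theorem _root_.Cfsg.Agent.KO758f306.e4 : @List.range = @_root_.Cfsg.Agent.KO758f306.k4 := by delta _root_.Cfsg.Agent.KO758f306.k4; rewrite [← Cfsg.Agent.KO758f306.e3]; rfl'
private noncomputable def _root_.Cfsg.Agent.KO758f306.k5 : type_of% @Bool.and := @(fun x0 x1 => @Bool.rec.{1} @(fun x2 => @Bool) @Bool.false @x1 @x0)
private theorem _root_.Cfsg.Agent.KO758f306.e5 : @Bool.and = @_root_.Cfsg.Agent.KO758f306.k5 := by delta _root_.Cfsg.Agent.KO758f306.k5; rfl'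
private noncomputable def _root_.Cfsg.Agent.KO758f306.k7.{ku0} : type_of% @List.get?Internal.{ku0} := @(fun x0 x1 x2 => @List.rec.{(ku0+1), ku0} @x0 @(fun x3 => ℕ → @Option.{ku0} @x0) @(fun x3 => @Option.none.{ku0} _) @(fun x3 x4 x5 x6 => @Nat.rec.{(ku0+1)} @(fun x7 => @Option.{ku0} @x0) (@Option.some.{ku0} _ @x3) @(fun x7 x8 => @x5 @x7) @x6) @x1 @x2)
private theorem _root_.Cfsg.Agent.KO758f306.e7.{ku0} : @List.get?Internal.{ku0} = @_root_.Cfsg.Agent.KO758f306.k7.{ku0} := by delta _root_.Cfsg.Agent.KO758f306.k7; funext a0 a1 a2; refine (congrFun (_root_.Cfsg.Agent.KO758f306.e0 (fun a1 a2 => @List.get?Internal.{ku0} a0 a1 a2) ?_ (fun c0 c1 => ?_) a1) a2 :) <;> [(funext b0; (rfl')); (funext b0; (cases b0 with | @zero  => (rfl') | @succ b0_0 => (rfl')))]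
private noncomputable def _root_.Cfsg.Agent.KO758f306.k8 : (by first | exact type_of% @Cfsg.Agent.MK.S.F4.tb | exact Unit : Sort _) := by first | (refine @Subtype.val _ (fun g => @Cfsg.Agent.MK.S.F4.tb = @g) (@Subtype.mk _ _ (@(fun x0 => @Option.rec.{1, 0} (@List.{0} (ℕ × ℕ)) @(fun x1 => @List.{0} (ℕ × ℕ)) (((nat_lit 26, nat_lit 67108863)) :: []) @(fun x1 => @x1) (@Cfsg.Agent.KO758f306.k7.{0} _ @Cfsg.Agent.MK.S.F4.tT @x0))) ?_); rewrite [← Cfsg.Agent.KO758f306.e7.{0}]; (try delta Cfsg.Agent.MK.S.F4.tb); (try generalize @Cfsg.Agent.MK.S.F4.tT = g0); rfl') | exact @Cfsg.Agent.MK.S.F4.tb | exact ()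
private theorem _root_.Cfsg.Agent.KO758f306.e8 : (by first | exact @Cfsg.Agent.MK.S.F4.tb = @_root_.Cfsg.Agent.KO758f306.k8 | exact True : Prop) := by first | (delta _root_.Cfsg.Agent.KO758f306.k8; exact @Subtype.property _ (fun g => @Cfsg.Agent.MK.S.F4.tb = @g) _) | rfl | trivial
private noncomputable def _root_.Cfsg.Agent.KO758f306.k9 : (by first | exact type_of% @Cfsg.Agent.MK.S.F4.ln | exact Unit : Sort _) := by first | (refine @Subtype.val _ (fun g => @Cfsg.Agent.MK.S.F4.ln = @g) (@Subtype.mk _ _ (@(fun x0 x1 => @Nat.mod (@Nat.shiftRight @x1 (@Nat.mul (nat_lit 26) @x0)) (nat_lit 67108864))) ?_); rfl') | exact @Cfsg.Agent.MK.S.F4.ln | exact ()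
private theorem _root_.Cfsg.Agent.KO758f306.e9 : (by first | exact @Cfsg.Agent.MK.S.F4.ln = @_root_.Cfsg.Agent.KO758f306.k9 | exact True : Prop) := by first | (delta _root_.Cfsg.Agent.KO758f306.k9; exact @Subtype.property _ (fun g => @Cfsg.Agent.MK.S.F4.ln = @g) _) | rfl | trivial
private noncomputable def _root_.Cfsg.Agent.KO758f306.k10 : (by first | exact type_of% @Cfsg.Agent.MK.S.F4.okp | exact Unit : Sort _) := by first | (refine @Subtype.val _ (fun g => @Cfsg.Agent.MK.S.F4.okp = @g) (@Subtype.mk _ _ (@(fun x0 => @Bool.rec.{1} @(fun x1 => @Bool) @Bool.false (@Cfsg.Agent.KO758f306.k1.{0} _ (@Cfsg.Agent.KO758f306.k3 (nat_lit 28) []) @(fun x1 => @Nat.beq (@Cfsg.Agent.KO758f306.k9 @x1 (@Nat.mul (@Prod.snd.{0, 0} _ _ @x0) @Cfsg.Agent.MK.S.F4.rep)) (@Prod.snd.{0, 0} _ _ @x0))) (@Nat.beq (@Nat.land (@Prod.snd.{0, 0} _ _ @x0) (@Nat.shiftRight (@Nat.shiftLeft (nat_lit 67108863) (nat_lit 26)) (@Prod.fst.{0, 0} _ _ @x0))) (@Prod.snd.{0,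 0} _ _ @x0)))) ?_); rewrite [← Cfsg.Agent.KO758f306.e9, ← Cfsg.Agent.KO758f306.e3, ← Cfsg.Agent.KO758f306.e1.{0}]; (try delta Cfsg.Agent.MK.S.F4.okp); (try generalize @Cfsg.Agent.MK.S.F4.ln = g0); (try generalize @Cfsg.Agent.MK.S.F4.rep = g1); rfl') | exact @Cfsg.Agent.MK.S.F4.okp | exact ()
private theorem _root_.Cfsg.Agent.KO758f306.e10 : (by first | exact @Cfsg.Agent.MK.S.F4.okp = @_root_.Cfsg.Agent.KO758f306.k10 | exact True : Prop) := by first | (delta _root_.Cfsg.Agent.KO758f306.k10; exact @Subtype.property _ (fun g => @Cfsg.Agent.MK.S.F4.okp = @g) _) | rfl | trivial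
private noncomputable def _root_.Cfsg.Agent.KO758f306.k11 : (by first | exact type_of% @Cfsg.Agent.Lib.BitNetSimple.force | exact Unit : Sort _) := by first | (refine @Subtype.val _ (fun g => @Cfsg.Agent.Lib.BitNetSimple.force = @g) (@Subtype.mk _ _ (@(fun x0 x1 x2 => @Nat.rec.{1} @(fun x3 => @x0) (@x2 (nat_lit 0)) @(fun x3 x4 => @x2 (@Nat.succ @x3)) @x1)) ?_); rfl') | exact @Cfsg.Agent.Lib.BitNetSimple.force | exact ()
private theorem _root_.Cfsg.Agent.KO758f306.e11 : (by first | exact @Cfsg.Agent.Lib.BitNetSimple.force = @_root_.Cfsg.Agent.KO758f306.k11 | exact True : Prop) := by first | (delta _root_.Cfsg.Agent.KO758f306.k11; exact @Subtype.property _ (fun g => @Cfsg.Agent.Lib.BitNetSimple.force = @g) _) | rfl | trivial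
private noncomputable def _root_.Cfsg.Agent.KO758f306.k12 : (by first | exact type_of% @Cfsg.Agent.H123.Cls.cdF | exact Unit : Sort _) := by first | (refine @Subtype.val _ (fun g => @Cfsg.Agent.H123.Cls.cdF = @g) (@Subtype.mk _ _ (@(fun x0 x1 => @List.rec.{1, 0} ℕ @(fun x2 => ℕ) (nat_lit 0) @(fun x2 x3 x4 => @Cfsg.Agent.KO758f306.k11 _ @x4 @(fun x5 => @Nat.add (@Nat.land (@Nat.shiftRight @x2 @x1) (nat_lit 1)) (@Nat.mul (nat_lit 2) @x5))) @x0)) ?_); rewrite [← Cfsg.Agent.KO758f306.e11]; (try delta Cfsg.Agent.H123.Cls.cdF); (try generalize @Cfsg.Agent.Lib.BitNetSimple.force = g0); rfl') | exact @Cfsg.Agent.H123.Cls.cdF | exact ()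
private theorem _root_.Cfsg.Agent.KO758f306.e12 : (by first | exact @Cfsg.Agent.H123.Cls.cdF = @_root_.Cfsg.Agent.KO758f306.k12 | exact True : Prop) := by first | (delta _root_.Cfsg.Agent.KO758f306.k12; exact @Subtype.property _ (fun g => @Cfsg.Agent.H123.Cls.cdF = @g) _) | rfl | trivial
private noncomputable def _root_.Cfsg.Agent.KO758f306.k13 : (by first | exact type_of% @Cfsg.Agent.TAB.F42.G.rows | exact Unit : Sort _) := by first | (refine @Subtype.val _ (fun g => @Cfsg.Agent.TAB.F42.G.rows = @g) (@Subtype.mk _ _ (@(fun x0 => @Option.rec.{1, 0} (@List.{0} ℕ) @(fun x1 => @List.{0} ℕ) @Cfsg.Agent.TAB.F42.G.unR @(fun x1 => @x1) (@Cfsg.Agent.KO758f306.k7.{0} _ @Cfsg.Agent.TAB.F42.G.rowsT @x0))) ?_); rewrite [← Cfsg.Agent.KO758f306.e7.{0}]; (try delta Cfsg.Agent.TAB.F42.G.rows); (try generalize @Cfsg.Agent.TAB.F42.G.unR = g0); (try generalize @Cfsg.Agent.TAB.F42.G.rowsT = g1); rfl') | exact @Cfsg.Agent.TAB.F42.G.rows | exact ()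
private theorem _root_.Cfsg.Agent.KO758f306.e13 : (by first | exact @Cfsg.Agent.TAB.F42.G.rows = @_root_.Cfsg.Agent.KO758f306.k13 | exact True : Prop) := by first | (delta _root_.Cfsg.Agent.KO758f306.k13; exact @Subtype.property _ (fun g => @Cfsg.Agent.TAB.F42.G.rows = @g) _) | rfl | trivial
private noncomputable def _root_.Cfsg.Agent.KO758f306.k14 : (by first | exact type_of% @Cfsg.Agent.MK.S.F4.stp | exact Unit : Sort _) := by first | (refine @Subtype.val _ (fun g => @Cfsg.Agent.MK.S.F4.stp = @g) (@Subtype.mk _ _ (@(fun x0 x1 x2 => @List.rec.{1, 0} (ℕ × ℕ) @(fun x3 => ℕ) (nat_lit 0) @(fun x3 x4 x5 => @Nat.xor (@Nat.land (@Nat.shiftRight (@Nat.shiftLeft @x2 (nat_lit 26)) (@Prod.fst.{0, 0} _ _ @x3)) (@Nat.mul (@Prod.snd.{0, 0} _ _ @x3) @x0)) @x5) @x1)) ?_); rfl') | exact @Cfsg.Agent.MK.S.F4.stp | exact ()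
private theorem _root_.Cfsg.Agent.KO758f306.e14 : (by first | exact @Cfsg.Agent.MK.S.F4.stp = @_root_.Cfsg.Agent.KO758f306.k14 | exact True : Prop) := by first | (delta _root_.Cfsg.Agent.KO758f306.k14; exact @Subtype.property _ (fun g => @Cfsg.Agent.MK.S.F4.stp = @g) _) | rfl | trivial

private theorem tb_chk : ((List.range 49).all fun r => (tb r).all okp &&
    (List.range 26).all fun k => Nat.beq (H123.Cls.cdF (rows r) k) (stp 1 (tb r) (Nat.pow 2 k))) = true := by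
  (first | (rewrite [Cfsg.Agent.KO758f306.e1.{0}, Cfsg.Agent.KO758f306.e4, Cfsg.Agent.KO758f306.e5, Cfsg.Agent.KO758f306.e8, Cfsg.Agent.KO758f306.e10, Cfsg.Agent.KO758f306.e12, Cfsg.Agent.KO758f306.e13, Cfsg.Agent.KO758f306.e14]; decide +kernel) | decide +kernel)

private theorem tb_spec (r : ℕ) : (tb r).all okp = true ∧ ∀ v < 2 ^ 26, ap (rows r) v = stp 1 (tb r) v := by
  have h : ∀ r < 49, (tb r).all okp = true ∧ ∀ v < 2 ^ 26, ap (rows r) v = stp 1 (tb r) v := fun r hr => by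
    have h1 := List.all_eq_true.1 tb_chk r (List.mem_range.2 hr)
    rw [Bool.and_eq_true] at h1
    refine ⟨h1.1, add_ext (ap_xor _) (fun a b => stp_xor 1 a b _) fun k hk => ?_⟩
    rw [ap_two_pow _ hk, ← H123.Cls.cdF_eq]
    exact Nat.eq_of_beq_eq_true (List.all_eq_true.1 h1.2 k (List.mem_range.2 hk))
  by_cases hr : r < 49
  · exact h r hr
  · have h1 : tb r = tb 48 := List.getD_eq_default _ _ (show 48 ≤ r by omega)
    rw [h1, rows_ge (show 48 ≤ r by omega), ← rows_ge (le_refl 48)]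
    exact h 48 (by decide)

private noncomputable def run (w : List ℕ) : ℕ :=
  List.rec q0 (fun r _ ih => Lib.BitNetSimple.force ih (stp rep (tb r))) w

private theorem run_ln {c : ℕ} (hc : c < 28) : ∀ w : List ℕ, ln c (run w) = apW w (ln c q0)
  | [] => (Nat.mod_mod _ _).symm
  | r :: w => by
    show ln c (Lib.BitNetSimple.force (run w) (stp rep (tb r))) = ap (rows r) (apW w (ln c q0))
    rw [Lib.BitNetSimple.force_eq, stp_ln hc _ _ (tb_spec r).1, run_ln hc w, (tb_spec r).2 _ (apW_lt _ _)]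

private noncomputable def eqF (v w : List ℕ) : Bool := Nat.beq (run (v ++ w.reverse)) q0

private theorem eqF_spec (v w : List ℕ) (h : eqF v w = true) : eqv v w = true := by
  obtain ⟨R, h1, h2⟩ := wdF_spec (v ++ w.reverse)
  rw [eqv, h2, oneB_iff h1]
  refine eq_one fun k hk => ?_
  have h3 : ∀ k < 26, ln (k + 2) q0 = 2 ^ k := by decide +kernel
  have h4 := run_ln (show k + 2 < 28 by omega) (v ++ w.reverse)
  rw [Nat.eq_of_beq_eq_true h, h3 k hk] at h4
  rw [L_wd, ← h4]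

private theorem chk1_mono {e e' : List ℕ → List ℕ → Bool} (he : ∀ v w, e v w = true → e' v w = true) {n m : ℕ} {c : Cert}
    {i : ℕ} (h : chk1 e n m c i = true) : chk1 e' n m c i = true := by
  delta chk1 at h ⊢
  simp only [Bool.and_eq_true, Bool.or_eq_true, List.all_eq_true] at h ⊢
  exact ⟨⟨h.1.1.imp_right (he _ _), fun j hj => (h.1.2 j hj).imp_right (And.imp_right (he _ _))⟩,
    h.2.imp_right (And.imp_right (he _ _))⟩

private theorem eqA_mono (v w : List ℕ) (h : eqA bar eqF v w = true) : eqA bar eqv v w = true := by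
  rw [eqA, Bool.and_eq_true] at h ⊢
  exact h.imp_right (eqF_spec _ _)

private noncomputable def _root_.Cfsg.Agent.KO758f306.k15 : type_of% @Decidable.decide := @(fun x0 x1 => @Decidable.rec.{1} _ @(fun x2 => @Bool) @(fun x2 => @Bool.false) @(fun x2 => @Bool.true) @x1)
private theorem _root_.Cfsg.Agent.KO758f306.e15 : @Decidable.decide = @_root_.Cfsg.Agent.KO758f306.k15 := by delta _root_.Cfsg.Agent.KO758f306.k15; rfl'
private noncomputable def _root_.Cfsg.Agent.KO758f306.k16l (n : Nat) (P : ∀ k, k < n → Prop) (H : ∀ k h, Decidable (P k h)) (m : Nat) : m ≤ n → Bool := @Nat.rec (fun m => m ≤ n → Bool) (fun _ => true) (fun k ih h => @Decidable.rec (P k h) (fun _ => Bool) (fun _ => false) (fun _ => ih (Nat.le_of_succ_le h)) (H k h)) m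
private theorem _root_.Cfsg.Agent.KO758f306.k16ls (n : Nat) (P : ∀ k, k < n → Prop) (H : ∀ k h, Decidable (P k h)) (m : Nat) : ∀ h : m ≤ n, _root_.Cfsg.Agent.KO758f306.k16l n P H m h = true ↔ ∀ k (g : k < m), P k (Nat.lt_of_lt_of_le g h) := by induction m with | zero => exact fun _ => ⟨fun _ _ g => absurd g (Nat.not_lt_zero _), fun _ => rfl⟩ | succ m ih => intro h; show @Decidable.rec (P m h) (fun _ => Bool) (fun _ => false) (fun _ => _root_.Cfsg.Agent.KO758f306.k16l n P H m (Nat.le_of_succ_le h)) (H m h) = true ↔ _; cases H m h with | isFalse q => exact ⟨fun g => absurd g Bool.false_ne_true, fun g => absurd (g m (Nat.lt_succ_self m)) q⟩ | isTrue q => exact ⟨fun g k hk => (Nat.lt_succ_iff_lt_or_eq.1 hk).elim ((ih _).1 g k) fun e => by subst e; exact q, fun g => (ih _).2 fun k hk => g k (Nat.lt_succ_of_lt hk)⟩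
private noncomputable def _root_.Cfsg.Agent.KO758f306.k16 (n : Nat) (P : ∀ k, k < n → Prop) (H : ∀ k h, Decidable (P k h)) : Decidable (∀ k h, P k h) := @Bool.rec (fun b => _root_.Cfsg.Agent.KO758f306.k16l n P H n (Nat.le_refl n) = b → Decidable (∀ k h, P k h)) (fun g => isFalse fun q => Bool.false_ne_true (g.symm.trans ((_root_.Cfsg.Agent.KO758f306.k16ls n P H n _).2 fun k h => q k h))) (fun g => isTrue fun k h => (_root_.Cfsg.Agent.KO758f306.k16ls n P H n _).1 g k h) (_root_.Cfsg.Agent.KO758f306.k16l n P H n (Nat.le_refl n)) rfl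
private theorem _root_.Cfsg.Agent.KO758f306.e16 : @Nat.decidableBallLT = @_root_.Cfsg.Agent.KO758f306.k16 := funext fun _ => funext fun _ => funext fun _ => Subsingleton.elim _ _
private noncomputable def _root_.Cfsg.Agent.KO758f306.k17 : type_of% @Bool.decEq := @(fun x0 x1 => @Bool.rec.{1} @(fun x2 => @Decidable (@Eq.{1} _ @x2 @x1)) (@Bool.rec.{1} @(fun x2 => @Decidable (@Eq.{1} _ @Bool.false @x2)) (@Decidable.isTrue _ (@rfl.{1} _ _)) (@Decidable.isFalse _ @(fun x2 => @Bool.noConfusion.{0} _ _ _ @x2)) @x1) (@Bool.rec.{1} @(fun x2 => @Decidable (@Eq.{1} _ @Bool.true @x2)) (@Decidable.isFalse _ @(fun x2 => @Bool.noConfusion.{0} _ _ _ @x2)) (@Decidable.isTrue _ (@rfl.{1} _ _)) @x1) @x0)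
private theorem _root_.Cfsg.Agent.KO758f306.e17 : @Bool.decEq = @_root_.Cfsg.Agent.KO758f306.k17 := by delta _root_.Cfsg.Agent.KO758f306.k17; rfl'
private noncomputable def _root_.Cfsg.Agent.KO758f306.k18 : type_of% @instDecidableEqBool := @Cfsg.Agent.KO758f306.k17
private theorem _root_.Cfsg.Agent.KO758f306.e18 : @instDecidableEqBool = @_root_.Cfsg.Agent.KO758f306.k18 := by delta _root_.Cfsg.Agent.KO758f306.k18; rewrite [← Cfsg.Agent.KO758f306.e17]; rfl'
private noncomputable def _root_.Cfsg.Agent.KO758f306.oLe.{ku} (α : Sort ku) (a b : Nat) (f t : α) : α := @Decidable.rec (@LE.le Nat instLENat a b) (fun _ => α) (fun _ => f) (fun _ => t) (Nat.decLe a b)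
private noncomputable def _root_.Cfsg.Agent.KO758f306.k19.{ku} (α : Sort ku) (a b : Nat) (f t : α) : α := @Bool.rec (fun _ => α) f t (Nat.ble a b)
private theorem _root_.Cfsg.Agent.KO758f306.e19.{ku} : @_root_.Cfsg.Agent.KO758f306.oLe.{ku} = @_root_.Cfsg.Agent.KO758f306.k19.{ku} := funext fun α => funext fun a => funext fun b => funext fun f => funext fun t => by delta _root_.Cfsg.Agent.KO758f306.oLe _root_.Cfsg.Agent.KO758f306.k19; cases h : Nat.ble a b <;> cases Nat.decLe a b <;> rename_i g <;> first | rfl | exact absurd (h.symm.trans (Nat.ble_eq_true_of_le g)) Bool.false_ne_true | exact absurd (Nat.le_of_ble_eq_true h) g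
private noncomputable def _root_.Cfsg.Agent.KO758f306.k20.{ku0} : type_of% @List.append.{ku0} := @(fun x0 x1 x2 => @List.rec.{(ku0+1), ku0} @x0 @(fun x3 => (@List.{ku0} @x0) → @List.{ku0} @x0) @(fun x3 => @x3) @(fun x3 x4 x5 x6 => @x3 :: (@x5 @x6)) @x1 @x2)
private theorem _root_.Cfsg.Agent.KO758f306.e20.{ku0} : @List.append.{ku0} = @_root_.Cfsg.Agent.KO758f306.k20.{ku0} := by delta _root_.Cfsg.Agent.KO758f306.k20; funext a0 a1 a2; refine (congrFun (_root_.Cfsg.Agent.KO758f306.e0 (fun a1 a2 => @List.append.{ku0} a0 a1 a2) ?_ (fun c0 c1 => ?_) a1) a2 :) <;> (rfl')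
private noncomputable def _root_.Cfsg.Agent.KO758f306.k21.{ku0} : type_of% @List.flatten.{ku0} := @(fun x0 x1 => @List.rec.{(ku0+1), ku0} (@List.{ku0} @x0) @(fun x2 => @List.{ku0} @x0) [] @(fun x2 x3 x4 => @Cfsg.Agent.KO758f306.k20.{ku0} _ @x2 @x4) @x1)
private theorem _root_.Cfsg.Agent.KO758f306.e21.{ku0} : @List.flatten.{ku0} = @_root_.Cfsg.Agent.KO758f306.k21.{ku0} := by delta _root_.Cfsg.Agent.KO758f306.k21; rewrite [← Cfsg.Agent.KO758f306.e20.{ku0}]; funext a0 a1; refine (_root_.Cfsg.Agent.KO758f306.e0 (fun a1 => @List.flatten.{ku0} a0 a1) ?_ (fun c0 c1 => ?_) a1 :) <;> (rfl')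
private noncomputable def _root_.Cfsg.Agent.KO758f306.k22.{ku0, ku1} : type_of% @List.map.{ku0, ku1} := @(fun x0 x1 x2 x3 => @List.rec.{(ku1+1), ku0} @x0 @(fun x4 => @List.{ku1} @x1) [] @(fun x4 x5 x6 => (@x2 @x4) :: @x6) @x3)
private theorem _root_.Cfsg.Agent.KO758f306.e22.{ku0, ku1} : @List.map.{ku0, ku1} = @_root_.Cfsg.Agent.KO758f306.k22.{ku0, ku1} := by delta _root_.Cfsg.Agent.KO758f306.k22; funext a0 a1 a2 a3; refine (_root_.Cfsg.Agent.KO758f306.e0 (fun a3 => @List.map.{ku0, ku1} a0 a1 a2 a3) ?_ (fun c0 c1 => ?_) a3 :) <;> (rfl')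
private noncomputable def _root_.Cfsg.Agent.KO758f306.k23 : (by first | exact type_of% @Cfsg.Agent.MK.S.Pc.chk1 | exact Unit : Sort _) := by first | (refine @Subtype.val _ (fun g => @Cfsg.Agent.MK.S.Pc.chk1 = @g) (@Subtype.mk _ _ (@(fun x0 x1 x2 x3 x4 => @Bool.rec.{1} @(fun x5 => @Bool) @Bool.false (@Bool.rec.{1} @(fun x5 => @Bool) (@Bool.rec.{1} @(fun x5 => @Bool) @Bool.false (@x0 (@Cfsg.Agent.KO758f306.k21.{0} _ (@Cfsg.Agent.KO758f306.k22.{0, 0} _ _ @(fun x5 => @Option.rec.{1, 0} (@List.{0} ℕ) @(fun x6 => @List.{0} ℕ) [] @(fun x6 => @x6) (@Cfsg.Agent.KO758f306.k7.{0} _ (@Cfsg.Agent.MK.S.Pc.Cert.gw @x3) @x5)) (@Cfsg.Agent.KO758f306.k20.{0} _ (@Prod.fst.{0, 0} _ _ (@Option.rec.{1, 0} ((@List.{0} ℕ) × ((@List.{0} ℕ) × (@List.{0} ℕ))) @(fun x5 => (@List.{0} ℕ) × ((@List.{0} ℕ) × (@List.{0} ℕ))) (([], ([], []))) @(fun x5 => @x5) (@Cfsg.Agent.KO758f306.k7.{0} _ (@Cfsg.Agent.MK.S.Pc.Cert.dv @x3) @x4))) (@Prod.fst.{0, 0} _ _ (@Prod.snd.{0,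 0} _ _ (@Option.rec.{1, 0} ((@List.{0} ℕ) × ((@List.{0} ℕ) × (@List.{0} ℕ))) @(fun x5 => (@List.{0} ℕ) × ((@List.{0} ℕ) × (@List.{0} ℕ))) (([], ([], []))) @(fun x5 => @x5) (@Cfsg.Agent.KO758f306.k7.{0} _ (@Cfsg.Agent.MK.S.Pc.Cert.dv @x3) @x4))))))) (@Cfsg.Agent.KO758f306.k21.{0} _ (@Cfsg.Agent.KO758f306.k22.{0, 0} _ _ @(fun x5 => @Option.rec.{1, 0} (@List.{0} ℕ) @(fun x6 => @List.{0} ℕ) [] @(fun x6 => @x6) (@Cfsg.Agent.KO758f306.k7.{0} _ (@Cfsg.Agent.MK.S.Pc.Cert.gw @x3) @x5)) (@x4 :: (@Cfsg.Agent.KO758f306.k20.{0} _ (@Prod.snd.{0, 0} _ _ (@Prod.snd.{0, 0} _ _ (@Option.rec.{1, 0} ((@List.{0} ℕ) × ((@List.{0} ℕ) × (@List.{0} ℕ))) @(fun x5 => (@List.{0} ℕ) × ((@List.{0} ℕ) × (@List.{0} ℕ))) (([], ([], []))) @(fun x5 => @x5) (@Cfsg.Agent.KO758f306.k7.{0} _ (@Cfsg.Agent.MK.S.Pc.Cert.dv @x3) @x4)))) (@Cfsg.Agent.KO758f306.k20.{0} _ (@Prod.fst.{0, 0} _ _ (@Prod.snd.{0, 0} _ _ (@Option.rec.{1, 0} ((@List.{0} ℕ) × ((@List.{0} ℕ) × (@List.{0}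 ℕ))) @(fun x5 => (@List.{0} ℕ) × ((@List.{0} ℕ) × (@List.{0} ℕ))) (([], ([], []))) @(fun x5 => @x5) (@Cfsg.Agent.KO758f306.k7.{0} _ (@Cfsg.Agent.MK.S.Pc.Cert.dv @x3) @x4)))) (@Prod.fst.{0, 0} _ _ (@Option.rec.{1, 0} ((@List.{0} ℕ) × ((@List.{0} ℕ) × (@List.{0} ℕ))) @(fun x5 => (@List.{0} ℕ) × ((@List.{0} ℕ) × (@List.{0} ℕ))) (([], ([], []))) @(fun x5 => @x5) (@Cfsg.Agent.KO758f306.k7.{0} _ (@Cfsg.Agent.MK.S.Pc.Cert.dv @x3) @x4))))))))) (@Bool.rec.{1} @(fun x5 => @Bool) @Bool.false (@Cfsg.Agent.KO758f306.k1.{0} _ (@Prod.snd.{0, 0} _ _ (@Prod.snd.{0, 0} _ _ (@Option.rec.{1, 0} ((@List.{0} ℕ) × ((@List.{0} ℕ) × (@List.{0} ℕ))) @(fun x5 => (@List.{0} ℕ) × ((@List.{0} ℕ) × (@List.{0} ℕ))) (([], ([], []))) @(fun x5 => @x5) (@Cfsg.Agent.KO758f306.k7.{0} _ (@Cfsg.Agent.MK.S.Pc.Cert.dv @x3) @x4)))) @(fun x5 => @Bool.rec.{1} @(fun x6 => @Bool) @Bool.false (@Nat.ble (@Nat.succ @x5) @x1) (@Nat.ble (@Nat.add @x4 (nat_lit 1)) @x5))) (@Bool.rec.{1}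 @(fun x5 => @Bool) @Bool.false (@Cfsg.Agent.KO758f306.k1.{0} _ (@Prod.fst.{0, 0} _ _ (@Prod.snd.{0, 0} _ _ (@Option.rec.{1, 0} ((@List.{0} ℕ) × ((@List.{0} ℕ) × (@List.{0} ℕ))) @(fun x5 => (@List.{0} ℕ) × ((@List.{0} ℕ) × (@List.{0} ℕ))) (([], ([], []))) @(fun x5 => @x5) (@Cfsg.Agent.KO758f306.k7.{0} _ (@Cfsg.Agent.MK.S.Pc.Cert.dv @x3) @x4)))) @(fun x5 => @Bool.rec.{1} @(fun x6 => @Bool) @Bool.false (@Nat.ble (@Nat.succ @x5) @x1) (@Nat.ble (nat_lit 0) @x5))) (@Cfsg.Agent.KO758f306.k1.{0} _ (@Prod.fst.{0, 0} _ _ (@Option.rec.{1, 0} ((@List.{0} ℕ) × ((@List.{0} ℕ) × (@List.{0} ℕ))) @(fun x5 => (@List.{0} ℕ) × ((@List.{0} ℕ) × (@List.{0} ℕ))) (([], ([], []))) @(fun x5 => @x5) (@Cfsg.Agent.KO758f306.k7.{0} _ (@Cfsg.Agent.MK.S.Pc.Cert.dv @x3) @x4))) @(fun x5 => @Bool.rec.{1} @(fun x6 => @Bool) @Bool.false (@Nat.ble (@Nat.succ @x5) @x1) (@Nat.ble (nat_lit 0) @x5)))))) @Bool.true (@Nat.ble (@Nat.succ @x4) @x2)) (@Bool.rec.{1} @(fun x5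 => @Bool) @Bool.false (@Cfsg.Agent.KO758f306.k1.{0} _ (@Cfsg.Agent.KO758f306.k3 @x1 []) @(fun x5 => @Bool.rec.{1} @(fun x6 => @Bool) (@Bool.rec.{1} @(fun x6 => @Bool) @Bool.false (@x0 (@Cfsg.Agent.KO758f306.k21.{0} _ (@Cfsg.Agent.KO758f306.k22.{0, 0} _ _ @(fun x6 => @Option.rec.{1, 0} (@List.{0} ℕ) @(fun x7 => @List.{0} ℕ) [] @(fun x7 => @x7) (@Cfsg.Agent.KO758f306.k7.{0} _ (@Cfsg.Agent.MK.S.Pc.Cert.gw @x3) @x6)) (@x4 :: (@x5 :: [])))) (@Cfsg.Agent.KO758f306.k21.{0} _ (@Cfsg.Agent.KO758f306.k22.{0, 0} _ _ @(fun x6 => @Option.rec.{1, 0} (@List.{0} ℕ) @(fun x7 => @List.{0} ℕ) [] @(fun x7 => @x7) (@Cfsg.Agent.KO758f306.k7.{0} _ (@Cfsg.Agent.MK.S.Pc.Cert.gw @x3) @x6)) (@Cfsg.Agent.KO758f306.k20.{0} _ (@Option.rec.{1, 0} (@List.{0} ℕ) @(fun x6 => @List.{0} ℕ) [] @(fun x6 => @x6) (@Cfsg.Agent.KO758f306.k7.{0} _ (@Option.rec.{1, 0} (@List.{0} (@List.{0} ℕ)) @(fun x6 => @List.{0} (@List.{0} ℕ)) [] @(fun x6 => @x6) (@Cfsg.Agent.KO758f306.k7.{0}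 _ (@Cfsg.Agent.MK.S.Pc.Cert.cm @x3) @x4)) @x5)) (@x5 :: (@x4 :: [])))))) (@Cfsg.Agent.KO758f306.k1.{0} _ (@Option.rec.{1, 0} (@List.{0} ℕ) @(fun x6 => @List.{0} ℕ) [] @(fun x6 => @x6) (@Cfsg.Agent.KO758f306.k7.{0} _ (@Option.rec.{1, 0} (@List.{0} (@List.{0} ℕ)) @(fun x6 => @List.{0} (@List.{0} ℕ)) [] @(fun x6 => @x6) (@Cfsg.Agent.KO758f306.k7.{0} _ (@Cfsg.Agent.MK.S.Pc.Cert.cm @x3) @x4)) @x5)) @(fun x6 => @Bool.rec.{1} @(fun x7 => @Bool) @Bool.false (@Nat.ble (@Nat.succ @x6) @x1) (@Nat.ble (@Cfsg.Agent.KO758f306.k19.{1} ℕ @x2 (@Nat.add @x4 (nat_lit 1)) @x2 (@Nat.add @x4 (nat_lit 1))) @x6)))) @Bool.true (@Nat.ble @x5 @x4))) (@Bool.rec.{1} @(fun x5 => @Bool) @Bool.false (@x0 (@Cfsg.Agent.KO758f306.k21.{0} _ (@Cfsg.Agent.KO758f306.k22.{0, 0} _ _ @(fun x5 => @Option.rec.{1, 0} (@List.{0} ℕ) @(fun x6 => @List.{0} ℕ) [] @(fun x6 => @x6) (@Cfsg.Agent.KO758f306.k7.{0} _ (@Cfsg.Agent.MK.S.Pc.Cert.gw @x3) @x5)) (@x4 :: (@x4 :: [])))) (@Cfsg.Agent.KO758f306.k21.{0}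 _ (@Cfsg.Agent.KO758f306.k22.{0, 0} _ _ @(fun x5 => @Option.rec.{1, 0} (@List.{0} ℕ) @(fun x6 => @List.{0} ℕ) [] @(fun x6 => @x6) (@Cfsg.Agent.KO758f306.k7.{0} _ (@Cfsg.Agent.MK.S.Pc.Cert.gw @x3) @x5)) (@Option.rec.{1, 0} (@List.{0} ℕ) @(fun x5 => @List.{0} ℕ) [] @(fun x5 => @x5) (@Cfsg.Agent.KO758f306.k7.{0} _ (@Cfsg.Agent.MK.S.Pc.Cert.sq @x3) @x4))))) (@Cfsg.Agent.KO758f306.k1.{0} _ (@Option.rec.{1, 0} (@List.{0} ℕ) @(fun x5 => @List.{0} ℕ) [] @(fun x5 => @x5) (@Cfsg.Agent.KO758f306.k7.{0} _ (@Cfsg.Agent.MK.S.Pc.Cert.sq @x3) @x4)) @(fun x5 => @Bool.rec.{1} @(fun x6 => @Bool) @Bool.false (@Nat.ble (@Nat.succ @x5) @x1) (@Nat.ble (@Nat.add @x4 (nat_lit 1)) @x5))))))) ?_); rewrite [← Cfsg.Agent.KO758f306.e19.{1}, ← Cfsg.Agent.KO758f306.e3, ← Cfsg.Agent.KO758f306.e1.{0}, ← Cfsg.Agent.KO758f306.e20.{0}, ← Cfsg.Agent.KO758f306.e7.{0}, ← Cfsg.Agent.KO758f306.e22.{0, 0}, ← Cfsg.Agent.KO758f306.e21.{0}]; rfl') | exact @Cfsg.Agent.MK.S.Pc.chk1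 | exact ()
private theorem _root_.Cfsg.Agent.KO758f306.e23 : (by first | exact @Cfsg.Agent.MK.S.Pc.chk1 = @_root_.Cfsg.Agent.KO758f306.k23 | exact True : Prop) := by first | (delta _root_.Cfsg.Agent.KO758f306.k23; exact @Subtype.property _ (fun g => @Cfsg.Agent.MK.S.Pc.chk1 = @g) _) | rfl | trivial
private noncomputable def _root_.Cfsg.Agent.KO758f306.k24 : (by first | exact type_of% @Cfsg.Agent.MK.S.F4.run | exact Unit : Sort _) := by first | (refine @Subtype.val _ (fun g => @Cfsg.Agent.MK.S.F4.run = @g) (@Subtype.mk _ _ (@(fun x0 => @List.rec.{1, 0} ℕ @(fun x1 => ℕ) @Cfsg.Agent.MK.S.F4.q0 @(fun x1 x2 x3 => @Cfsg.Agent.KO758f306.k11 _ @x3 (@Cfsg.Agent.KO758f306.k14 @Cfsg.Agent.MK.S.F4.rep (@Cfsg.Agent.KO758f306.k8 @x1))) @x0)) ?_); rewrite [← Cfsg.Agent.KO758f306.e8, ← Cfsg.Agent.KO758f306.e14, ← Cfsg.Agent.KO758f306.e11]; (try delta Cfsg.Agent.MK.S.F4.run); (try generalize @Cfsg.Agent.MK.S.F4.q0 = g0); (try generalize @Cfsg.Agent.Lib.BitNetSimple.force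 = g1); (try generalize @Cfsg.Agent.MK.S.F4.stp = g2); (try generalize @Cfsg.Agent.MK.S.F4.rep = g3); (try generalize @Cfsg.Agent.MK.S.F4.tb = g4); rfl') | exact @Cfsg.Agent.MK.S.F4.run | exact ()
private theorem _root_.Cfsg.Agent.KO758f306.e24 : (by first | exact @Cfsg.Agent.MK.S.F4.run = @_root_.Cfsg.Agent.KO758f306.k24 | exact True : Prop) := by first | (delta _root_.Cfsg.Agent.KO758f306.k24; exact @Subtype.property _ (fun g => @Cfsg.Agent.MK.S.F4.run = @g) _) | rfl | trivial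
private noncomputable def _root_.Cfsg.Agent.KO758f306.k25.{ku0} : type_of% @List.reverseAux.{ku0} := @(fun x0 x1 x2 => @List.rec.{(ku0+1), ku0} @x0 @(fun x3 => (@List.{ku0} @x0) → @List.{ku0} @x0) @(fun x3 => @x3) @(fun x3 x4 x5 x6 => @x5 (@x3 :: @x6)) @x1 @x2)
private theorem _root_.Cfsg.Agent.KO758f306.e25.{ku0} : @List.reverseAux.{ku0} = @_root_.Cfsg.Agent.KO758f306.k25.{ku0} := by delta _root_.Cfsg.Agent.KO758f306.k25; funext a0 a1 a2; refine (congrFun (_root_.Cfsg.Agent.KO758f306.e0 (fun a1 a2 => @List.reverseAux.{ku0} a0 a1 a2) ?_ (fun c0 c1 => ?_) a1) a2 :) <;> (rfl')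
private noncomputable def _root_.Cfsg.Agent.KO758f306.k26 : (by first | exact type_of% @Cfsg.Agent.MK.S.F4.eqF | exact Unit : Sort _) := by first | (refine @Subtype.val _ (fun g => @Cfsg.Agent.MK.S.F4.eqF = @g) (@Subtype.mk _ _ (@(fun x0 x1 => @Nat.beq (@Cfsg.Agent.KO758f306.k24 (@Cfsg.Agent.KO758f306.k20.{0} _ @x0 (@Cfsg.Agent.KO758f306.k25.{0} _ @x1 []))) @Cfsg.Agent.MK.S.F4.q0)) ?_); rewrite [← Cfsg.Agent.KO758f306.e25.{0}, ← Cfsg.Agent.KO758f306.e20.{0}, ← Cfsg.Agent.KO758f306.e24]; (try delta Cfsg.Agent.MK.S.F4.eqF); (try generalize @Cfsg.Agent.MK.S.F4.run = g0); (try generalize @Cfsg.Agent.MK.S.F4.q0 = g1); rfl') | exact @Cfsg.Agent.MK.S.F4.eqF | exact ()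
private theorem _root_.Cfsg.Agent.KO758f306.e26 : (by first | exact @Cfsg.Agent.MK.S.F4.eqF = @_root_.Cfsg.Agent.KO758f306.k26 | exact True : Prop) := by first | (delta _root_.Cfsg.Agent.KO758f306.k26; exact @Subtype.property _ (fun g => @Cfsg.Agent.MK.S.F4.eqF = @g) _) | rfl | trivial

theorem chkU : ∀ i < 24, chk1 eqv 24 5 cU i = true := fun i hi =>
  chk1_mono eqF_spec ((by (first | (refine of_decide_eq_true ?_; rewrite [Cfsg.Agent.KO758f306.e15, Cfsg.Agent.KO758f306.e16, Cfsg.Agent.KO758f306.e18, Cfsg.Agent.KO758f306.e23, Cfsg.Agent.KO758f306.e26]; decide +kernel) | decide +kernel) : ∀ i < 24, chk1 eqF 24 5 cU i = true) i hi)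

private noncomputable def _root_.Cfsg.Agent.KO758f306.k27.{ku0, ku1} : type_of% @List.foldr.{ku0, ku1} := @(fun x0 x1 x2 x3 x4 => @List.rec.{(ku1+1), ku0} @x0 @(fun x5 => @x1) @x3 @(fun x5 x6 x7 => @x2 @x5 @x7) @x4)
private theorem _root_.Cfsg.Agent.KO758f306.e27.{ku0, ku1} : @List.foldr.{ku0, ku1} = @_root_.Cfsg.Agent.KO758f306.k27.{ku0, ku1} := by delta _root_.Cfsg.Agent.KO758f306.k27; funext a0 a1 a2 a3 a4; refine (_root_.Cfsg.Agent.KO758f306.e0 (fun a4 => @List.foldr.{ku0, ku1} a0 a1 a2 a3 a4) ?_ (fun c0 c1 => ?_) a4 :) <;> (rfl')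
private noncomputable def _root_.Cfsg.Agent.KO758f306.k28 : (by first | exact type_of% @Cfsg.Agent.MK.S.F4.nf | exact Unit : Sort _) := by first | (refine @Subtype.val _ (fun g => @Cfsg.Agent.MK.S.F4.nf = @g) (@Subtype.mk _ _ (@(fun x0 x1 => @Cfsg.Agent.KO758f306.k27.{0, 0} _ _ @(fun x2 x3 => @Bool.rec.{1} @(fun x4 => @List.{0} ℕ) (@x2 :: @x3) (@Cfsg.Agent.KO758f306.k22.{0, 0} _ _ @x0 @x3) (@Nat.beq @x2 (nat_lit 48))) [] @x1)) ?_); rewrite [← Cfsg.Agent.KO758f306.e22.{0, 0}, ← Cfsg.Agent.KO758f306.e27.{0, 0}]; rfl') | exact @Cfsg.Agent.MK.S.F4.nf | exact ()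
private theorem _root_.Cfsg.Agent.KO758f306.e28 : (by first | exact @Cfsg.Agent.MK.S.F4.nf = @_root_.Cfsg.Agent.KO758f306.k28 | exact True : Prop) := by first | (delta _root_.Cfsg.Agent.KO758f306.k28; exact @Subtype.property _ (fun g => @Cfsg.Agent.MK.S.F4.nf = @g) _) | rfl | trivial
private noncomputable def _root_.Cfsg.Agent.KO758f306.k29 : (by first | exact type_of% @Cfsg.Agent.MK.S.F4.par | exact Unit : Sort _) := by first | (refine @Subtype.val _ (fun g => @Cfsg.Agent.MK.S.F4.par = @g) (@Subtype.mk _ _ (@(fun x0 => @Cfsg.Agent.KO758f306.k27.{0, 0} _ _ @(fun x1 x2 => @Bool.rec.{1} @(fun x3 => @Bool) @x2 (@Bool.rec.{1} @(fun x3 => @Bool) @Bool.true @Bool.false @x2) (@Nat.beq @x1 (nat_lit 48))) @Bool.false @x0)) ?_); rewrite [← Cfsg.Agent.KO758f306.e27.{0, 0}]; rfl') | exact @Cfsg.Agent.MK.S.F4.par | exact ()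
private theorem _root_.Cfsg.Agent.KO758f306.e29 : (by first | exact @Cfsg.Agent.MK.S.F4.par = @_root_.Cfsg.Agent.KO758f306.k29 | exact True : Prop) := by first | (delta _root_.Cfsg.Agent.KO758f306.k29; exact @Subtype.property _ (fun g => @Cfsg.Agent.MK.S.F4.par = @g) _) | rfl | trivial
private noncomputable def _root_.Cfsg.Agent.KO758f306.k30 : (by first | exact type_of% @Cfsg.Agent.MK.S.F4.eqA | exact Unit : Sort _) := by first | (refine @Subtype.val _ (fun g => @Cfsg.Agent.MK.S.F4.eqA = @g) (@Subtype.mk _ _ (@(fun x0 x1 x2 x3 => @Bool.rec.{1} @(fun x4 => @Bool) @Bool.false (@x1 (@Cfsg.Agent.KO758f306.k28 @x0 @x2) (@Cfsg.Agent.KO758f306.k28 @x0 @x3)) (@Bool.rec.{1} @(fun x4 => @Bool) @Bool.false (@Decidable.rec.{1} _ @(fun x4 => @Bool) @(fun x4 => @Bool.false) @(fun x4 => @Bool.true) (@Cfsg.Agent.KO758f306.k17 (@Cfsg.Agent.KO758f306.k29 @x2) (@Cfsg.Agent.KO758f306.k29 @x3))) (@Bool.rec.{1} @(fun x4 => @Bool) @Bool.false (@Cfsg.Agent.KO758f306.k1.{0}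 _ @x3 @(fun x4 => @Nat.ble (@Nat.succ @x4) (nat_lit 49))) (@Cfsg.Agent.KO758f306.k1.{0} _ @x2 @(fun x4 => @Nat.ble (@Nat.succ @x4) (nat_lit 49))))))) ?_); rewrite [← Cfsg.Agent.KO758f306.e1.{0}, ← Cfsg.Agent.KO758f306.e29, ← Cfsg.Agent.KO758f306.e17, ← Cfsg.Agent.KO758f306.e28]; (try delta Cfsg.Agent.MK.S.F4.eqA); (try generalize @Cfsg.Agent.MK.S.F4.nf = g0); (try generalize @Cfsg.Agent.MK.S.F4.par = g1); rfl') | exact @Cfsg.Agent.MK.S.F4.eqA | exact ()
private theorem _root_.Cfsg.Agent.KO758f306.e30 : (by first | exact @Cfsg.Agent.MK.S.F4.eqA = @_root_.Cfsg.Agent.KO758f306.k30 | exact True : Prop) := by first | (delta _root_.Cfsg.Agent.KO758f306.k30; exact @Subtype.property _ (fun g => @Cfsg.Agent.MK.S.F4.eqA = @g) _) | rfl | trivial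
private noncomputable def _root_.Cfsg.Agent.KO758f306.k31 : (by first | exact type_of% @Cfsg.Agent.FourTwo.Base.bar | exact Unit : Sort _) := by first | (refine @Subtype.val _ (fun g => @Cfsg.Agent.FourTwo.Base.bar = @g) (@Subtype.mk _ _ (@(fun x0 => @Option.rec.{1, 0} ℕ @(fun x1 => ℕ) (nat_lit 0) @(fun x1 => @x1) (@Cfsg.Agent.KO758f306.k7.{0} _ ((let x1 : @List.{0} ℕ := (let x1 : @List.{0} ℕ := (let x1 : @List.{0} ℕ := (nat_lit 36) :: ((nat_lit 38) :: ((nat_lit 47) :: ((nat_lit 39) :: ((nat_lit 40) :: ((nat_lit 44) :: []))))); (nat_lit 42) :: ((nat_lit 32) :: ((nat_lit 43) :: ((nat_lit 45) :: ((nat_lit 46) :: ((nat_lit 29) :: @x1)))))); (let x2 : @List.{0} ℕ := (nat_lit 28) :: ((nat_lit 35) :: ((nat_lit 37) :: ((nat_lit 24) :: ((nat_lit 26) :: ((nat_lit 31) :: @x1))))); (nat_lit 33) :: ((nat_lit 27) :: ((nat_lit 34) :: ((nat_lit 25) :: ((nat_lit 30) :: ((nat_lit 41) :: @x2))))))); (let x2 : @List.{0} ℕ := (let x2 : @List.{0}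 ℕ := (nat_lit 6) :: ((nat_lit 17) :: ((nat_lit 22) :: ((nat_lit 13) :: ((nat_lit 20) :: ((nat_lit 14) :: @x1))))); (nat_lit 16) :: ((nat_lit 21) :: ((nat_lit 23) :: ((nat_lit 10) :: ((nat_lit 12) :: ((nat_lit 19) :: @x2)))))); (let x3 : @List.{0} ℕ := (nat_lit 18) :: ((nat_lit 1) :: ((nat_lit 2) :: ((nat_lit 4) :: ((nat_lit 15) :: ((nat_lit 5) :: @x2))))); (nat_lit 3) :: ((nat_lit 7) :: ((nat_lit 8) :: ((nat_lit 0) :: ((nat_lit 9) :: ((nat_lit 11) :: @x3))))))))) @x0))) ?_); rewrite [← Cfsg.Agent.KO758f306.e7.{0}]; rfl') | exact @Cfsg.Agent.FourTwo.Base.bar | exact ()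
private theorem _root_.Cfsg.Agent.KO758f306.e31 : (by first | exact @Cfsg.Agent.FourTwo.Base.bar = @_root_.Cfsg.Agent.KO758f306.k31 | exact True : Prop) := by first | (delta _root_.Cfsg.Agent.KO758f306.k31; exact @Subtype.property _ (fun g => @Cfsg.Agent.FourTwo.Base.bar = @g) _) | rfl | trivial

theorem chkA : ∀ i < 25, chk1 (eqA bar eqv) 25 4 cA i = true := fun i hi =>
  chk1_mono eqA_mono ((by (first | (refine of_decide_eq_true ?_; rewrite [Cfsg.Agent.KO758f306.e15, Cfsg.Agent.KO758f306.e16, Cfsg.Agent.KO758f306.e18, Cfsg.Agent.KO758f306.e23, Cfsg.Agent.KO758f306.e30, Cfsg.Agent.KO758f306.e31, Cfsg.Agent.KO758f306.e26]; decide +kernel) | decide +kernel) : ∀ i < 25, chk1 (eqA bar eqF) 25 4 cA i = true) i hi)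

theorem chkYU : ∀ i < 24, inR 0 24 (yU.getD i []) = true ∧ eqv [24 + i] (cU.ex (yU.getD i [])) = true := fun i hi =>
  ((by decide +kernel : ∀ i < 24, inR 0 24 (yU.getD i []) = true ∧ eqF [24 + i] (cU.ex (yU.getD i [])) = true)
    i hi).imp_right (eqF_spec _ _)

theorem chkYA : ∀ i < 25, inR 0 25 (yW.getD i []) = true ∧ eqA bar eqv [24 + i] (cA.ex (yW.getD i [])) = true :=
  fun i hi => ((by decide +kernel : ∀ i < 25, inR 0 25 (yW.getD i []) = true ∧
    eqA bar eqF [24 + i] (cA.ex (yW.getD i [])) = true) i hi).imp_right (eqA_mono _ _)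

end Cfsg.Agent.MK.S.F4

private theorem dce_493a270c9e5c : _root_.True := by
  try have : _root_.True := by simp only [_root_.Cfsg.Agent.MK.S.F4.eqA.eq_1]
  try have : _root_.True := by simp only [_root_.Cfsg.Agent.MK.S.F4.par.eq_1]
  try have : _root_.True := by simp only [_root_.Cfsg.Agent.MK.S.F4.nf.eq_1]
  try have : _root_.True := by simp only [_root_.Cfsg.Agent.MK.S.F4.eqv.eq_1]
  exact _root_.True.intro
end

-- part: MK/S/F4L
section
set_option linter.all false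
open scoped Cfsg.Agent.FastGrp

/-!
# MK: the Sylow `2`-subgroups of `F₄(2)` and of its automorphism group modulo their commutator subgroups (helper47)
-/

set_option autoImplicit false
set_option maxRecDepth 100000
set_option maxHeartbeats 100000

namespace Cfsg.Agent.MK.S.F4

open Cfsg Subgroup Cfsg.Agent.MK.T Cfsg.Agent.MK.S.Pc
open Cfsg.Agent.FourTwo Cfsg.Agent.FourTwo.Base Cfsg.Agent.TAB.F42.G

section

variable {G : Type} [Group G]

theorem sq_one {γ : MulAut G} (h : ∀ g, γ (γ g) = g) : γ * γ = 1 := MulEquiv.ext h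

theorem out_of {γ : MulAut G} (h : ¬ ∃ g : G, ∀ h, γ h = g * h * g⁻¹) : γ ∉ (MulAut.conj : G →* MulAut G).range :=
  fun ⟨g, hg⟩ => h ⟨g, fun k => (DFunLike.congr_fun hg k).symm⟩

theorem a2_gen [Finite G] {y : ℕ → G} {γ : MulAut G} (hZ : center G = ⊥)
    (hi : (MulAut.conj : G →* MulAut G).range.index = 2) (h1 : ∀ r < 48, γ (y r) = y (bar r)) (h2 : ∀ g, γ (γ g) = g)
    (h3 : ¬ ∃ g : G, ∀ h, γ h = g * h * g⁻¹) (he : ∀ v w, eqv v w = true → ev y v = ev y w) {U : Subgroup G}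
    (h4 : Nat.card U = 2 ^ 24) (h5 : Nat.card G = 2 ^ 24 * 197358525)
    (h6 : ∀ H : Subgroup G, (∀ i < 24, y (24 + i) ∈ H) → U ≤ H) : a2 G = 32 ∧ a2 (MulAut G) = 16 := by
  constructor
  · have h := pc_of_chk he (by norm_num) chkU
    exact a2_of h4 h5 (by norm_num) (h.index_of (h6 _ fun i hi =>
      mem_of_word he (chkYU i hi).1 (chkYU i hi).2) h4).2
  · have hA := eqA_spec h1 (fun _ => bar_lt) (sq_one h2) he
    have h := pc_of_chk hA (by norm_num) chkA
    have h7 := fun i hi => mem_of_word hA (chkYA i hi).1 (chkYA i hi).2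
    refine a2_aut hZ hi (out_of h3) h4 h5 (by norm_num) h (map_le_iff_le_comap.2 (h6 _ fun i hi => ?_)) ?_
    · have h8 := h7 i (by omega)
      rw [yA, if_neg (by omega)] at h8
      exact h8
    · have h8 := h7 24 (by omega)
      rw [yA, if_pos rfl] at h8
      exact h8

end

theorem card_eq : Nat.card LL = 2 ^ 24 * 197358525 := card_LL

theorem U_le (H : Subgroup LL) (h : ∀ i < 24, x (24 + i) ∈ H) : BN.U ≤ H := by
  rw [Cent.U_eq]
  refine Par.RG_le fun r h1 h2 => ?_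
  have h3 : 24 ≤ r := of_decide_eq_true h2
  rw [show r = 24 + (r - 24) by omega]
  exact h _ (by omega)

end Cfsg.Agent.MK.S.F4

private theorem dce_7d31003c55d1 : _root_.True := by
  try have : _root_.True := by simp only [_root_.Cfsg.Agent.MK.S.F4.yA.eq_1]
  exact _root_.True.intro
end

-- part: MK/S/F4G
section
prune_inst 0x7f00000000000000000000000000000000000000000000000000000000000000000000000000000000000000000000000000000000000000000000000000000000000000000000000000000000000000003fffffffffffffffffffffffffffbeffbdffffffff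
set_option linter.all false
open scoped Cfsg.Agent.FastGrp

/-!
# MK: the irreducible characters of odd degree of `F₄(2)` and the graph automorphism (helper47)
-/

set_option autoImplicit false
set_option maxRecDepth 100000
set_option maxHeartbeats 200000

namespace Cfsg.Agent.MK.S.F4

open Cfsg Cfsg.Agent.MK.T Cfsg.Agent.TAB.Eng Cfsg.Agent.TAB.Use Cfsg.Agent.TAB.F42 Cfsg.Agent.Characters

/-- the value of a rational character -/
noncomputable def vl (j t : ℕ) : ℤ := (RR.rel.getD j ([], [])).2.getD t 0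

/-- the fixed characters -/
def fx (j : ℕ) : Bool := [0, 1, 5, 21, 37, 38, 72, 86].contains j

private noncomputable def _root_.Cfsg.Agent.LsF.f23f6a9_0 : {f // @Cfsg.Agent.TAB.Use.Rows.n = f} := ⟨_, by first | (delta Cfsg.Agent.TAB.Use.Rows.n; rewrite [Cfsg.Agent.LsF.length_eq]; exact rfl) | exact rfl⟩
private noncomputable def _root_.Cfsg.Agent.LsF.f23f6a9_1 : {f // @Cfsg.Agent.TAB.Sm2.rw' = f} := ⟨_, by first | (delta Cfsg.Agent.TAB.Sm2.rw'; rewrite [Cfsg.Agent.LsF.lappend_pat, Cfsg.Agent.LsF.getD_eq]; exact rfl) | exact rfl⟩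
private noncomputable def _root_.Cfsg.Agent.LsF.f23f6a9_2 : {f // @Cfsg.Agent.TAB.Sm2.wt = f} := ⟨_, by first | (delta Cfsg.Agent.TAB.Sm2.wt; rewrite [Cfsg.Agent.LsF.f23f6a9_1.2, Cfsg.Agent.LsF.imul_pat, Cfsg.Agent.LsF.decLt_eq, Cfsg.Agent.LsF.length_eq, Cfsg.Agent.LsF.ite_eq]; exact rfl) | exact rfl⟩
private noncomputable def _root_.Cfsg.Agent.LsF.f23f6a9_3 : {f // @Cfsg.Agent.TAB.Sm2.ro = f} := ⟨_, by first | (delta Cfsg.Agent.TAB.Sm2.ro; rewrite [Cfsg.Agent.LsF.nadd_pat, Cfsg.Agent.LsF.nsub_pat, Cfsg.Agent.LsF.ndiv_pat, Cfsg.Agent.LsF.decLt_eq, Cfsg.Agent.LsF.length_eq, Cfsg.Agent.LsF.ite_eq]; exact rfl) | exact rfl⟩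
private noncomputable def _root_.Cfsg.Agent.LsF.f23f6a9_4 : {f // @Cfsg.Agent.TAB.Sm2.mkRows = f} := ⟨_, by first | (delta Cfsg.Agent.TAB.Sm2.mkRows; rewrite [Cfsg.Agent.LsF.f23f6a9_2.2, Cfsg.Agent.LsF.f23f6a9_3.2, Cfsg.Agent.LsF.f23f6a9_1.2, Cfsg.Agent.LsF.nadd_pat, Cfsg.Agent.LsF.nmul_pat, Cfsg.Agent.LsF.ndiv_pat, Cfsg.Agent.LsF.lappend_pat, Cfsg.Agent.LsF.map_eq, Cfsg.Agent.LsF.range_eq, Cfsg.Agent.LsF.toNat_eq, Cfsg.Agent.LsF.length_eq]; exact rfl) | exact rfl⟩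
private noncomputable def _root_.Cfsg.Agent.LsF.f23f6a9_5 : {f // @Cfsg.Agent.TAB.F42.RR = f} := ⟨_, by first | (delta Cfsg.Agent.TAB.F42.RR; rewrite [Cfsg.Agent.LsF.f23f6a9_4.2]; exact rfl) | exact rfl⟩
theorem c1 : RR.n = 95 ∧ RR.rel.length = 92 ∧ ∀ j < 89, (RR.rel.getD j ([], [])).1 = [(j, 1)] := by (refine of_decide_eq_true ?_; (try (rewrite [Cfsg.Agent.LsF.f23f6a9_0.2, Cfsg.Agent.LsF.f23f6a9_5.2, Cfsg.Agent.LsF.dProdEq_eq, Cfsg.Agent.LsF.instDecEq_eq, Cfsg.Agent.LsF.getD_eq, Cfsg.Agent.LsF.instIDecEq_eq, Cfsg.Agent.LsF.dAnd_eq, Cfsg.Agent.LsF.dListEq_eq, Cfsg.Agent.LsF.dBallLT_eq, Cfsg.Agent.LsF.length_eq, Cfsg.Agent.LsF.decide_eq])); decide +kernel)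

private noncomputable def _root_.Cfsg.Agent.LsF.f23f6a9_6 : {f // @Cfsg.Agent.MK.S.F4.fx = f} := ⟨_, by first | (delta Cfsg.Agent.MK.S.F4.fx; rewrite [Cfsg.Agent.LsF.instNBEq_pat, Cfsg.Agent.LsF.contains_eq]; exact rfl) | exact rfl⟩
private noncomputable def _root_.Cfsg.Agent.LsF.f23f6a9_7 : {f // @Cfsg.Agent.TAB.Use.Rows.d = f} := ⟨_, by first | (delta Cfsg.Agent.TAB.Use.Rows.d; rewrite [Cfsg.Agent.LsF.getD_eq]; exact rfl) | exact rfl⟩
private noncomputable def _root_.Cfsg.Agent.LsF.f23f6a9_8 : {f // @Cfsg.Agent.MK.S.F4.vl = f} := ⟨_, by first | (delta Cfsg.Agent.MK.S.F4.vl; rewrite [Cfsg.Agent.LsF.f23f6a9_5.2, Cfsg.Agent.LsF.getD_eq]; exact rfl) | exact rfl⟩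
theorem c2 : ∀ j < 95, ∀ i < 95, fx j = false ∨ RR.d i ≠ RR.d j ∨ i = j ∨ (j < 89 ∧ i < 89 ∧ vl j 3 ≠ vl i 3) := by
  (refine of_decide_eq_true ?_; (try (rewrite [Cfsg.Agent.LsF.f23f6a9_6.2, Cfsg.Agent.LsF.f23f6a9_7.2, Cfsg.Agent.LsF.f23f6a9_5.2, Cfsg.Agent.LsF.f23f6a9_8.2, Cfsg.Agent.LsF.instDecEq_eq, Cfsg.Agent.LsF.decLt_eq, Cfsg.Agent.LsF.instIDecEq_eq, Cfsg.Agent.LsF.dAnd_eq, Cfsg.Agent.LsF.dOr_eq, Cfsg.Agent.LsF.dNot_eq, Cfsg.Agent.LsF.dBoolEq_eq, Cfsg.Agent.LsF.dBallLT_eq, Cfsg.Agent.LsF.decide_eq])); decide +kernel)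

theorem c3 : ∀ j < 95, RR.d j % 2 = 1 → fx j = false →
    (j < 89 ∧ (vl j 2 ≠ vl j 1 ∨ vl j 9 ≠ vl j 8)) ∨ j = 93 ∨ j = 94 := by (refine of_decide_eq_true ?_; (try (rewrite [Cfsg.Agent.LsF.f23f6a9_7.2, Cfsg.Agent.LsF.f23f6a9_5.2, Cfsg.Agent.LsF.f23f6a9_6.2, Cfsg.Agent.LsF.f23f6a9_8.2, Cfsg.Agent.LsF.nmod_pat, Cfsg.Agent.LsF.instDecEq_eq, Cfsg.Agent.LsF.decLt_eq, Cfsg.Agent.LsF.instIDecEq_eq, Cfsg.Agent.LsF.dAnd_eq, Cfsg.Agent.LsF.dOr_eq, Cfsg.Agent.LsF.dNot_eq, Cfsg.Agent.LsF.dBoolEq_eq, Cfsg.Agent.LsF.dBallLT_eq, Cfsg.Agent.LsF.dAllP_eq, Cfsg.Agent.LsF.decide_eq])); decide +kernel)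

private noncomputable def _root_.Cfsg.Agent.LsF.f23f6a9_9 : {f // @Cfsg.Agent.TAB.Eng.Dat.ord = f} := ⟨_, by first | (delta Cfsg.Agent.TAB.Eng.Dat.ord; rewrite [Cfsg.Agent.LsF.getD_eq]; exact rfl) | exact rfl⟩
theorem c4 : ∀ s < 92, (D.ord s = D.ord 1 → nth pY s = nth pY' 1 → s = 2) ∧
    (D.ord s = D.ord 3 → nth pY s = nth pY' 3 → s = 3) ∧ (D.ord s = D.ord 8 → nth pY s = nth pY' 8 → s = 9) ∧
    (17 = D.ord s → s = 77) := by (refine of_decide_eq_true ?_; (try (rewrite [Cfsg.Agent.LsF.f23f6a9_9.2, Cfsg.Agent.LsF.instDecEq_eq, Cfsg.Agent.LsF.instIDecEq_eq, Cfsg.Agent.LsF.dAnd_eq, Cfsg.Agent.LsF.dBallLT_eq, Cfsg.Agent.LsF.dAllP_eq, Cfsg.Agent.LsF.decide_eq])); decide +kernel)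

theorem c5 : RR.d 93 = 11609325 ∧ RR.d 94 = 11609325 ∧ D.cnt 77 = 389544306278400 := by decide +kernel

theorem c6 : ((List.range RR.n).countP fun j => RR.d j % 2 == 1 && fx j) = 8 ∧
    ((List.range RR.n).countP fun j => RR.d j % 2 == 1) = 32 := by (refine of_decide_eq_true ?_; (try (rewrite [Cfsg.Agent.LsF.f23f6a9_7.2, Cfsg.Agent.LsF.f23f6a9_5.2, Cfsg.Agent.LsF.f23f6a9_6.2, Cfsg.Agent.LsF.f23f6a9_0.2, Cfsg.Agent.LsF.nmod_pat, Cfsg.Agent.LsF.nbeq_pat, Cfsg.Agent.LsF.and_eq, Cfsg.Agent.LsF.instDecEq_eq, Cfsg.Agent.LsF.range_eq, Cfsg.Agent.LsF.countP_eq, Cfsg.Agent.LsF.dAnd_eq, Cfsg.Agent.LsF.decide_eq])); decide +kernel)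

variable {G : Type} [Group G] {T : TD G D}

/-- a character which is constant on the elements of order `p` -/
theorem val_int {χ : G → ℂ} (hχ : IsCharacter G χ) {p : ℕ} (hp : p.Prime) {x : G} (hx : orderOf x = p) {v : ℂ}
    (h : ∀ y, orderOf y = p → χ y = v) : ∃ m : ℕ, v = χ 1 - p * m := by
  classical
  obtain ⟨d, μ, -, h2, h3⟩ := GaloisBasic.isCharacter_exists_fin_pow hχ x hp.ne_zero (hx ▸ pow_orderOf_eq_one x)
  obtain ⟨ω, hω⟩ : ∃ ω : ℂ, IsPrimitiveRoot ω p := ⟨_, Complex.isPrimitiveRoot_exp p hp.ne_zero⟩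
  have h4 : ∀ k ∈ Finset.range p, χ (x ^ k) * ω ^ k = v * ω ^ k + if k = 0 then χ 1 - v else 0 := fun k hk => by
    split_ifs with h5
    · simp [h5]
    · rw [h _ ((Nat.Coprime.orderOf_pow (hx ▸ Nat.coprime_of_lt_prime h5 (Finset.mem_range.1 hk) hp)).trans hx),
        add_zero]
  have h5 : ∀ i, ∑ k ∈ Finset.range p, μ i ^ k * ω ^ k = p * if μ i * ω = 1 then 1 else 0 := fun i => by
    simp only [← mul_pow]
    split_ifs with h6
    · simp [h6]
    · rw [geom_sum_eq h6, mul_pow, h2, hω.pow_eq_one]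
      simp
  refine ⟨(Finset.univ.filter fun i => μ i * ω = 1).card, ?_⟩
  have h6 := Finset.sum_congr rfl h4
  rw [Finset.sum_add_distrib, ← Finset.mul_sum, hω.geom_sum_eq_zero hp.one_lt, Finset.sum_ite_eq',
    if_pos (Finset.mem_range.2 hp.pos)] at h6
  simp only [h3, Finset.sum_mul] at h6
  rw [Finset.sum_comm, Finset.sum_congr rfl fun i _ => h5 i, ← Finset.mul_sum, Finset.sum_boole] at h6
  linear_combination h6

theorem norm_le [Finite G] (hm : T.Mass) {χ : G → ℂ} (hχ : IsIrrCharacter G χ) {t : ℕ} (ht : t < D.n) {v : ℂ}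
    (h : ∀ y, T.ty y = t → χ y = v) : (D.cnt t : ℝ) * Complex.normSq v ≤ D.N := by
  have := Fintype.ofFinite G
  have h1 := (Core.classInner_self_eq_ofReal χ).symm.trans (Core.classInner_irr_self hχ)
  have h2 : (Nat.card G : ℝ) ≠ 0 := Nat.cast_ne_zero.2 Nat.card_pos.ne'
  rw [Complex.ofReal_eq_one, inv_mul_eq_one₀ h2] at h1
  have h3 := sum_mass hm fun s => if s = t then Complex.normSq v else 0
  simp only [smul_ite, smul_zero, Finset.sum_ite_eq', if_pos (Finset.mem_range.2 ht), nsmul_eq_mul] at h3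
  rw [← h3, ← hm.1, h1]
  refine Finset.sum_le_sum fun g _ => ?_
  split_ifs with h4
  · rw [h g h4]
  · exact Complex.normSq_nonneg _

theorem ty_77 {y : G} : T.ty y = 77 ↔ orderOf y = 17 :=
  ⟨fun h => (T.ord y).trans (by rw [h]; rfl), fun h => (c4 _ (T.lt _)).2.2.2 (h.symm.trans (T.ord y))⟩

theorem two_cls [Finite G] (hm : T.Mass) {a b x x' : G} (ha : orderOf a = 17) (hb : orderOf b = 17)
    (hc : D.cnt 77 ≤ Nat.card {g // IsConj a g ∨ IsConj b g}) (hx : orderOf x = 17) (hx' : orderOf x' = 17)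
    (hn : ¬ IsConj x x') (y : G) (hy : orderOf y = 17) : IsConj x y ∨ IsConj x' y := by
  have h1 : ∀ {a g : G}, orderOf a = 17 → IsConj a g → T.ty g = 77 := fun h1 h2 => by
    obtain ⟨c, rfl⟩ := isConj_iff.1 h2
    rw [ty_77, ← MulAut.conj_apply, MulEquiv.orderOf_eq, h1]
  have h2 : Function.Injective fun g : {g // IsConj a g ∨ IsConj b g} =>
      (⟨g.1, g.2.elim (h1 ha) (h1 hb)⟩ : {g // T.ty g = 77}) := fun a b h => Subtype.ext (congrArg Subtype.val h :)
  have h3 := ((Nat.bijective_iff_injective_and_card _).2 ⟨h2, le_antisymm (Nat.card_le_card_of_injective _ h2)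
    ((hm.2 77 (by decide)).le.trans hc)⟩).2
  have h4 : ∀ g, orderOf g = 17 → IsConj a g ∨ IsConj b g := fun g hg => by
    obtain ⟨u, hu⟩ := h3 ⟨g, ty_77.2 hg⟩
    have h5 : u.1 = g := congrArg Subtype.val hu
    exact h5 ▸ u.2
  rcases h4 x hx with h5 | h5 <;> rcases h4 x' hx' with h6 | h6 <;> rcases h4 y hy with h7 | h7
  all_goals first
    | exact absurd (h5.symm.trans h6) hn
    | exact Or.inl (h5.symm.trans h7)
    | exact Or.inr (h6.symm.trans h7)

theorem row_eq {χ : ℕ → G → ℂ} (hR : Rel T RR χ) {j : ℕ} (hj : j < 89) (g : G) : χ j g = (vl j (T.ty g) : ℂ) := by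
  refine hR.row ?_ (c1.2.2 j hj) g
  rw [List.getD_eq_getElem _ _ (by rw [c1.2.1]; omega)]
  exact List.getElem_mem _

theorem k0_gen (h : Hyp T) : k0 G = 32 := by
  obtain ⟨χ, hE, -⟩ := tab_of h
  rw [k0_enum hE, c6.2]

theorem f0_gen (h : Hyp T) (α : MulAut G) (h1 : ∀ g, nth pY (T.ty (α g)) = nth pY' (T.ty g)) {x : G}
    (h2 : orderOf x = 17) (h3 : ∀ y, orderOf y = 17 → IsConj x y ∨ IsConj (α x) y) : f0 α = 8 := by
  have := h.finite
  obtain ⟨χ, hE, hR⟩ := tab_of h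
  have hn := c1.1
  have ho' : ∀ g, D.ord (T.ty (α g)) = D.ord (T.ty g) := fun g => by rw [← T.ord, ← T.ord, α.orderOf_eq]
  obtain ⟨a, ha⟩ := h.inh 1 (by decide)
  obtain ⟨b, hb⟩ := h.inh 3 (by decide)
  obtain ⟨c, hc⟩ := h.inh 8 (by decide)
  have ha' : T.ty (α a) = 2 := (c4 _ (T.lt _)).1 (by rw [ho', ha]) (by rw [h1, ha])
  have hb' : T.ty (α b) = 3 := (c4 _ (T.lt _)).2.1 (by rw [ho', hb]) (by rw [h1, hb])
  have hc' : T.ty (α c) = 9 := (c4 _ (T.lt _)).2.2.1 (by rw [ho', hc]) (by rw [h1, hc])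
  have key : ∀ j < RR.n, RR.d j = 11609325 → ¬ ∀ y, χ j (α y) = χ j y := fun j hj hd h4 => by
    have h5 : ∀ y, orderOf y = 17 → χ j y = χ j x := fun y hy => by
      rcases h3 y hy with h6 | h6
      · exact (GaloisIrr.isConj_iff_forall_irr.1 h6 _ (hE.irr j hj)).symm
      · exact (GaloisIrr.isConj_iff_forall_irr.1 h6 _ (hE.irr j hj)).symm.trans (h4 x)
    obtain ⟨m, hm⟩ := val_int (Core.isIrr_isCharacter (hE.irr j hj)) (by norm_num) h2 h5
    have h6 := norm_le h.1 (hE.irr j hj) (t := 77) (by decide) fun y hy => h5 y (ty_77.1 hy)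
    have h7 : χ j x = ((11609325 - 17 * m : ℤ) : ℂ) := by
      rw [hm, hE.deg j hj, hd]
      push_cast
      rfl
    rw [h7, Complex.normSq_intCast, c5.2.2, show D.N = 3311126603366400 from rfl] at h6
    have h8 : (389544306278400 : ℤ) * ((11609325 - 17 * m) * (11609325 - 17 * m)) ≤ 3311126603366400 := by
      exact_mod_cast h6
    have h9 : (11609325 - 17 * m : ℤ) ≤ -8 ∨ 8 ≤ (11609325 - 17 * m : ℤ) := by omega
    generalize (11609325 - 17 * m : ℤ) = z at h8 h9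
    rcases h9 with h9 | h9 <;> nlinarith
  rw [f0_enum hE (q := fx) fun j hj hd => ⟨fun h4 => ?_, fun h4 y => ?_⟩, c6.1]
  · by_contra h5
    rcases c3 j (hn ▸ hj) (Nat.odd_iff.1 hd) (Bool.eq_false_iff.2 h5) with ⟨h6, h7 | h7⟩ | rfl | rfl
    · have h8 := h4 a
      rw [row_eq hR h6, row_eq hR h6, ha, ha'] at h8
      exact h7 (by exact_mod_cast h8)
    · have h8 := h4 c
      rw [row_eq hR h6, row_eq hR h6, hc, hc'] at h8
      exact h7 (by exact_mod_cast h8)
    · exact key _ hj c5.1 h4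
    · exact key _ hj c5.2.1 h4
  · obtain ⟨i, hi, h7, h8⟩ := enum_perm hE α hj
    rcases c2 j (hn ▸ hj) i (hn ▸ hi) with h5 | h5 | rfl | ⟨h5, h9, h10⟩
    · exact absurd h4 (Bool.eq_false_iff.1 h5)
    · exact absurd h7 h5
    · exact h8 y
    · have h11 := h8 b
      rw [row_eq hR h5, row_eq hR h9, hb, hb'] at h11
      exact absurd (by exact_mod_cast h11) h10

open Cfsg.Agent.FourTwo.Base Cfsg.Agent.TAB.F42.G Cfsg.Agent.TAB.Co

private noncomputable def _root_.Cfsg.Agent.LsF.f23f6a9_10 : {f // @Cfsg.Agent.TAB.Eng.Dat.pw = f} := ⟨_, by first | (delta Cfsg.Agent.TAB.Eng.Dat.pw; rewrite [Cfsg.Agent.LsF.getD_eq]; exact rfl) | exact rfl⟩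
private noncomputable def _root_.Cfsg.Agent.LsF.f23f6a9_11 : {f // @Cfsg.Agent.TAB.Eng.look = f} := ⟨_, by first | (delta Cfsg.Agent.TAB.Eng.look List.brecOn List.brecOn.go Cfsg.Agent.TAB.Eng.look._f; rewrite [Cfsg.Agent.LsF.instDecEq_eq, Cfsg.Agent.LsF.ite_eq]; (try delta Cfsg.Agent.TAB.Eng.look.match_1); (try delta List.casesOn); first | dsimp -zeta only | exact rfl) | exact rfl⟩
private noncomputable def _root_.Cfsg.Agent.LsF.f23f6a9_12 : {f // @Cfsg.Agent.TAB.Eng.Dat.okPow = f} := ⟨_, by first | (delta Cfsg.Agent.TAB.Eng.Dat.okPow; rewrite [Cfsg.Agent.LsF.dMemP_pat, Cfsg.Agent.LsF.f23f6a9_9.2, Cfsg.Agent.LsF.f23f6a9_10.2, Cfsg.Agent.LsF.f23f6a9_11.2, Cfsg.Agent.LsF.nadd_pat, Cfsg.Agent.LsF.nmul_pat, Cfsg.Agent.LsF.nmod_pat, Cfsg.Agent.LsF.nbeq_pat, Cfsg.Agent.LsF.nbne_pat, Cfsg.Agent.LsF.dProdEq_eq, Cfsg.Agent.LsF.and_eq, Cfsg.Agent.LsF.or_eq, Cfsg.Agent.LsF.instDecEq_eq, Cfsg.Agent.LsF.decLt_eq, Cfsg.Agent.LsF.all_eq, Cfsg.Agent.LsF.range_eq,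 Cfsg.Agent.LsF.decide_eq]; exact rfl) | exact rfl⟩
private noncomputable def _root_.Cfsg.Agent.LsF.f23f6a9_13 : {f // @Cfsg.Agent.TAB.F42.G.val = f} := ⟨_, by first | (delta Cfsg.Agent.TAB.F42.G.val; rewrite [Cfsg.Agent.LsF.icast_pat, Cfsg.Agent.LsF.getD_eq]; exact rfl) | exact rfl⟩
theorem exists_T : ∃ T : TD LL D, Hyp T ∧ ∀ g, nth pY (T.ty (gam g)) = nth pY' (T.ty g) := by
  have := finite_LL
  obtain ⟨T, hm, hV⟩ := exists_cls (K := key) (D := D) (val := val) (by ((try (rewrite [Cfsg.Agent.LsF.f23f6a9_12.2])); decide +kernel)) (by ((try (delta Cfsg.Agent.TAB.Eng.Dat.okSep; rewrite [Cfsg.Agent.LsF.f23f6a9_9.2, Cfsg.Agent.LsF.f23f6a9_10.2, Cfsg.Agent.LsF.f23f6a9_13.2, Cfsg.Agent.LsF.nbeq_pat, Cfsg.Agent.LsF.nbne_pat, Cfsg.Agent.LsF.and_eq, Cfsg.Agent.LsF.or_eq, Cfsg.Agent.LsF.all_eq, Cfsg.Agent.LsF.any_eq, Cfsg.Agent.LsF.range_eq, Cfsg.Agent.LsF.instIDecEq_eq, Cfsg.Agent.LsF.dNot_eq, Cfsg.Agent.LsF.decide_eq])); decide +kernel))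
    (by decide +kernel) card_LL (V := VV) (fun _ _ _ hv hc => hv.conj hc) good_all
  exact ⟨T, ⟨hm, (orb_of T (MonoidHom.id LL) prX (Ns := []) (fun g => (hV g).1) (by simp)).virt,
    orb_Y T (MonoidHom.id LL) fun g => (hV g).2.1, orb_Y T gam.toMonoidHom fun g => (hV g).2.2⟩,
    fun g => (hV (gam g)).2.1.1.symm.trans (hV g).2.2.1⟩

/-- an element of order `17` -/
def w17 : List ℕ := [14, 20, 4, 22, 47, 23]

/-- the test which separates the two classes -/
def p17 : List ℕ := [80, 80, 16467, 16595, 32851, 464, 211, 1187905]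

theorem c7 : wdF w17 (fun R => pwF R 17 oneB && !oneB R && psF R [] p17 28634430) = true ∧
    psF unR [] prX 28634430 = true ∧ wdF (w17.map bar) (cX p17) = 0 := by decide +kernel

theorem x17 : orderOf (wd w17) = 17 ∧ ¬ IsConj (wd w17) (gam (wd w17)) := by
  obtain ⟨h1, h2, h3⟩ := c7
  obtain ⟨R, hR, e1⟩ := wdF_spec w17
  obtain ⟨R', hR', e2⟩ := wdF_spec (w17.map bar)
  obtain ⟨O, hO, e3⟩ := pwF_spec hR 17
  rw [e1, e3, Bool.and_eq_true, Bool.and_eq_true, oneB_iff hO, Bool.not_eq_true', Bool.eq_false_iff, Ne,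
    oneB_iff hR] at h1
  rw [e2, cX] at h3
  rw [← gam_wd w17 (by decide)] at hR'
  have : Fact (Nat.Prime 17) := ⟨by norm_num⟩
  exact ⟨orderOf_eq_prime h1.1.1 h1.1.2, not_conj' lanesX (by norm_num) hR hR' (by norm_num) h2 h1.2 h3⟩

theorem g17 : ∃ a b : LL, orderOf a = 17 ∧ orderOf b = 17 ∧ D.cnt 77 ≤ Nat.card {g // IsConj a g ∨ IsConj b g} := by
  obtain ⟨a, b, h1, h2, h3, -⟩ := g77
  exact ⟨a, b, h1.1, h2.1, h3⟩

end Cfsg.Agent.MK.S.F4
end

-- part: MK/S/F4
section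
set_option linter.all false
open scoped Cfsg.Agent.FastGrp

/-!
# MK: the small row of `F₄(2)` (helper47)
-/

set_option autoImplicit false
set_option maxRecDepth 100000
set_option maxHeartbeats 200000

namespace Cfsg.Agent.MK.S

open Cfsg Cfsg.Lie Subgroup Cfsg.Agent.MK.T Cfsg.Agent.MK.S.Pc Cfsg.Agent.QTNorm Cfsg.Agent.TAB.Eng Cfsg.Agent.TAB.F42
open Cfsg.Agent.FourTwo Cfsg.Agent.FourTwo.Base Cfsg.Agent.TAB.F42.G

namespace F4

theorem sm_gen {A : Type} [Group A] (H : Subgroup A) [Finite H] {y : ℕ → H} (γ : H ≃* H)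
    (hs : IsSimpleGroup H ∧ ¬ IsMulCommutative H) (hi : AutF4.outIndex H = 2) (h1 : ∀ r < 48, γ (y r) = y (bar r))
    (h2 : ∀ g, γ (γ g) = g) (h3 : ¬ ∃ g : H, ∀ h, γ h = g * h * g⁻¹)
    (he : ∀ v w, eqv v w = true → ev y v = ev y w) {U : Subgroup H} (h4 : Nat.card U = 2 ^ 24)
    (h5 : Nat.card H = 2 ^ 24 * 197358525) (h6 : ∀ K : Subgroup H, (∀ i < 24, y (24 + i) ∈ K) → U ≤ K)
    (hU : ¬ 2 ∣ U.index) (hN : normalizer (U : Set H) = U)
    (hT : ∃ T : TD H D, Hyp T ∧ ∀ g, nth pY (T.ty (γ g)) = nth pY' (T.ty g)) {x : H}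
    (hx : orderOf x = 17 ∧ ¬ IsConj x (γ x))
    (hc : ∃ a b : H, orderOf a = 17 ∧ orderOf b = 17 ∧ D.cnt 77 ≤ Nat.card {g // IsConj a g ∨ IsConj b g}) :
    Sm H := by
  have := two_prime
  obtain ⟨T, hT, hY⟩ := hT
  obtain ⟨a, b, ha, hb, hc⟩ := hc
  have := hs.1
  have hZ : center H = ⊥ := (inferInstance : (center H).Normal).eq_bot_or_eq_top.resolve_right fun h =>
    hs.2 ⟨⟨fun a b => (mem_center_iff.1 (h ▸ mem_top b : b ∈ center H) a)⟩⟩
  obtain ⟨h7, h8⟩ := a2_gen (γ := γ) hZ hi h1 h2 h3 he h4 h5 h6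
  have h9 := f0_gen hT γ hY hx.1 (two_cls hT.1 ha hb hc hx.1 ((γ.orderOf_eq x).trans hx.1) hx.2)
  exact sm_of_self hZ hi (SelfN.of_one ((IsPGroup.of_card h4).toSylow hU) hN.le) ((k0_gen hT).trans h7.symm)
    (out_of h3) (by rw [h8, h9])

theorem sm_LL : Sm LL := by
  have := finite_LL
  exact sm_gen (chevF4.group (ZMod 2)) AutF4.gam (S1054.result chevF4 (by simp)) AutF4.index_inn
    (fun _ => AutF4.gam_x) AutF4.gam_gam AutF4.gam_not_inner eqv_spec AutF4.card_U card_eq U_le AutF4.index_U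
    AutF4.normalizer_U exists_T x17 g17

theorem sm_iso {G H : Type} [Group G] [Group H] (h : Sm G) (e : Nonempty (G ≃* H)) {X : Type} [Group X] (f : X ≃* H) :
    Sm X := by
  obtain ⟨e⟩ := e
  exact sm_congr (f.trans e.symm) h

end F4

/-- **`F₄(2)`** -/
theorem sm_f42 (F : Type) [Field F] [Fintype F] (hF : Fintype.card F = 2) {X : Type} [Group X]
    (e : X ≃* ↥(chevF4.group F)) : Sm X := F4.sm_iso F4.sm_LL (iso F hF) e

end Cfsg.Agent.MK.S
end

-- part: MK/S2/HS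
section
set_option linter.all false
open scoped Cfsg.Agent.FastGrp

/-!
# MK, the small row of the Higman-Sims group (helper39)

The Sylow `2`-subgroups of the group and of its automorphism group have the same commutator subgroup.
-/

set_option autoImplicit false
set_option maxHeartbeats 400000
set_option maxRecDepth 100000

namespace Cfsg.Agent.MK.S2

open Subgroup Cfsg.Agent.MK.T Cfsg.Agent.MK.S

namespace HSRow

open Cfsg.Agent.MK.S.Pc Cfsg.Agent.FS.Real Cfsg.Agent.TwoF.SpC Cfsg.Agent.TwoF.SpC.HS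
open Cfsg.Agent.HN.HS100 Cfsg.Agent.HN.AutBound Cfsg.Agent.HN.AutHS
open Cfsg.Agent.SporadicA.PermTab (autG)

/-- the code of a word -/
noncomputable def cd (w : List ℕ) : ℕ := w.foldr (fun a r => D.mul (a % 1024) r) 0

noncomputable def eqv (v w : List ℕ) : Bool := Nat.beq (cd v) (cd w)

def cA : Pc.Cert where
  gw := [[1], [8], [4], [2], [64], [32], [16], [192], [256], [512]]
  sq := [[], [], [], [], [9], [], [], [9], [], []]
  cm := [[[], [], [], [4, 8, 9], [9], [], [], [], [], []],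
    [[], [], [5, 9], [4, 6, 8], [9], [], [], [8, 9], [], []],
    [[], [], [], [4, 7, 9], [], [], [7, 8], [], [9], []],
    [[], [], [], [], [], [7, 8, 9], [], [], [9], []],
    [[], [], [], [], [], [], [], [], [], []],
    [[], [], [], [], [], [], [8], [9], [], []],
    [[], [], [], [], [], [], [], [9], [], []],
    [[], [], [], [], [], [], [], [], [], []],
    [[], [], [], [], [], [], [], [], [], []],
    [[], [], [], [], [], [], [], [], [], []]]
  dv := [([], [], []), ([], [], []), ([], [], []), ([], [], []), ([0], [3], [8, 9]), ([1], [2], [9]), ([3], [0, 1], [9]), ([2], [6], [8]), ([1], [7], [9]), ([0], [4], [])]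

def cQ : Pc.Cert where
  gw := [[8], [4], [2], [64], [32], [16], [192], [256], [512]]
  sq := [[], [], [], [8], [], [], [8], [], []]
  cm := [[[], [4, 8], [3, 5, 7], [8], [], [], [7, 8], [], []],
    [[], [], [3, 6, 8], [], [], [6, 7], [], [8], []],
    [[], [], [], [], [6, 7, 8], [], [], [8], []],
    [[], [], [], [], [], [], [], [], []],
    [[], [], [], [], [], [7], [8], [], []],
    [[], [], [], [], [], [], [8], [], []],
    [[], [], [], [], [], [], [], [], []],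
    [[], [], [], [], [], [], [], [], []],
    [[], [], [], [], [], [], [], [], []]]
  dv := [([], [], []), ([], [], []), ([], [], []), ([0], [2], [5, 7]), ([0], [1], [8]), ([2], [0, 1], [6, 8]), ([1], [5], [7]), ([0], [6], [8]), ([0], [3], [])]

/-- the old generators as words in the new ones -/
def bk : List (List ℕ) := [[0], [3], [2], [1], [6], [5], [4], [4, 7, 9], [8], [9]]

theorem chkA : ∀ i < 10, chk1 eqv 10 4 cA i = true := by decide +kernel

theorem chkQ : ∀ i < 9, chk1 eqv 9 3 cQ i = true := by decide +kernel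

theorem chkB : ∀ i < 10, (inR 0 10 (bk.getD i []) && eqv [2 ^ i] (cA.ex (bk.getD i []))) = true := by
  decide +kernel

theorem chkE : ∀ i < 9, cQ.gw.getD i [] = cA.gw.getD (i + 1) [] ∧
    ∀ a ∈ cQ.gw.getD i [], Nat.testBit (a % 1024) 0 = false := by decide

variable {x : ℕ → Equiv.Perm (Fin 100)} {S : Subgroup (Equiv.Perm (Fin 100))}

/-- the letters -/
noncomputable def y (x : ℕ → Equiv.Perm (Fin 100)) (a : ℕ) : Equiv.Perm (Fin 100) := el x 10 (a % 1024)

theorem ev_cd (J : Gen D S x) : ∀ w, ev (y x) w = el x 10 (cd w)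
  | [] => (el_nil x 10).symm
  | a :: w => by
    rw [ev_cons, ev_cd J w]
    exact J.mul (Nat.mod_lt a (by decide)) _

theorem eqv_ok (J : Gen D S x) (v w : List ℕ) (h : eqv v w = true) : ev (y x) v = ev (y x) w := by
  rw [ev_cd J, ev_cd J, Nat.eq_of_beq_eq_true h]

theorem el_even {A : Subgroup (Equiv.Perm (Fin 100))} (h : ∀ i, 0 < i → i < 10 → x i ∈ A) {a : ℕ}
    (ha : a.testBit 0 = false) : ∀ n ≤ 10, el x n a ∈ A
  | 0, _ => one_mem A
  | n + 1, hn => by
    have h1 := el_even h ha n (by omega)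
    rw [el_succ]
    cases h2 : tb a n
    · exact h1
    · refine mul_mem h1 (h n (Nat.pos_of_ne_zero ?_) hn)
      rintro rfl
      rw [tb_eq, ha] at h2
      cases h2

theorem a2_both : a2 Q = 8 ∧ a2 (autG 100 adjA) = 16 := by
  obtain ⟨x, hx, h1, h2, -⟩ := exists_gen hg hZ X_ok Q_le Z_mem Z_not
  obtain ⟨S, J⟩ := Mdl.RX.gen (D := D) hx D_ok X_rel
  have pA := pc_of_chk (eqv_ok J) (by norm_num) chkA
  have pQ := pc_of_chk (eqv_ok J) (by norm_num) chkQ
  have hA : 2 ^ 10 ≤ Nat.card (V (cA.el (y x)) 10 0) := by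
    refine J.card.ge.trans (card_le_of_le (J.le_of fun i hi => ?_))
    have h3 := chkB i hi
    rw [Bool.and_eq_true] at h3
    have h4 := eqv_ok J _ _ h3.2
    rw [Cert.ev_ex, ev_cons, ev_nil, mul_one, y, Nat.mod_eq_of_lt (show 2 ^ i < 1024 from D.two_pow_lt hi),
      el_two_pow x 10 hi] at h4
    rw [h4]
    exact inR_mem h3.1
  have hQ : 2 ^ 9 ≤ Nat.card (V (cQ.el (y x)) 9 0) := by
    refine (pA.card_eq hA (k := 1) (by norm_num)).ge.trans (card_le_of_le (V_le fun i h3 h4 => ?_))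
    obtain ⟨j, rfl⟩ : ∃ j, i = j + 1 := ⟨i - 1, by omega⟩
    rw [Cert.el, ← (chkE j (by omega)).1]
    exact mem_V (g := cQ.el (y x)) (Nat.zero_le j) (by omega)
  constructor
  · refine S5.a2_of_pc Q.subtype (subtype_injective _) pQ hQ (fun i hi => ?_) (k := 86625) (by decide) card_Q
    rw [range_subtype]
    exact ev_mem fun a ha => el_even h2 ((chkE i hi).2 a ha) 10 le_rfl
  · refine S5.a2_of_pc (autG 100 adjA).subtype (subtype_injective _) pA hA (fun i _ => ?_) (k := 86625) (by decide)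
      card_autG
    rw [range_subtype]
    exact ev_mem fun a _ => el_mem _ 10 h1

theorem hZ' : center Q = ⊥ := eq_bot_iff.2 fun _ hz => mem_bot.2 (Subtype.ext
  (eq_one_of_comm fun q hq => (congrArg Subtype.val (mem_center_iff.1 hz ⟨q, hq⟩)).symm))

theorem hi : (MulAut.conj : Q →* MulAut Q).range.index = 2 := KFacts.HS.index_inn nonempty_Q.1

theorem a2_aut : a2 (MulAut Q) = 16 := by
  obtain ⟨e, -⟩ := aut_equiv hZ' hi (inclusion Q_le) (inclusion_injective _) (by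
      rw [inclusion_range]
      have h1 := card_mul_index (Q.subgroupOf (autG 100 adjA))
      rw [Nat.card_congr (subgroupOfEquivOfLe Q_le).toEquiv, card_Q, card_autG] at h1
      omega)
    fun a ha => Subtype.ext (eq_one_of_comm fun q hq => congrArg Subtype.val (ha ⟨q, hq⟩))
  rw [← a2_congr e, a2_both.2]

theorem k0_Q : k0 Q = 8 := by
  obtain ⟨e⟩ := nonempty_Q.1
  rw [k0_congr e, k0_of_degList TAB.HS.deg]
  decide

open Cfsg.Agent.TAB in
theorem f0_Q (α : MulAut Q) : f0 α = k0 Q := by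
  obtain ⟨χ, hE, hR⟩ := HS.tabQ.2
  refine f0_eq_of_all fun ψ hψ g => ?_
  obtain ⟨j, hj, rfl⟩ := hE.all ψ hψ.1
  have ho := hψ.2
  rw [hE.charDegree_eq hj, Nat.odd_iff] at ho
  have h1 : ∀ j < (Sm2.mkRows HS.A HS.B).n, (Sm2.mkRows HS.A HS.B).d j % 2 = 1 → j < HS.A.length := by
    decide +kernel
  have h2 : ([(j, 1)], Sm2.rw' HS.A HS.B j) ∈ (Sm2.mkRows HS.A HS.B).rel :=
    List.mem_append_left _ (List.mem_map.2 ⟨j, List.mem_range.2 (h1 j hj ho), rfl⟩)
  have h3 := hR _ h2 (α g)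
  rw [show HS.T.ty (α g) = HS.T.ty g from congrArg Fin.val (H344.S8.HS.cl_aut α g), ← hR _ h2 g] at h3
  simpa using h3

theorem smQ : Sm Q := by
  obtain ⟨α, -, hα⟩ := exists_out hi default
  refine sm_of_self hZ' hi (QTNorm.HSRow.selfN_hs nonempty_Q.1) (k0_Q.trans a2_both.1.symm) hα ?_
  rw [f0_Q, k0_Q, a2_aut]

end HSRow

/-- **the row of `HS`** -/
theorem hs : SmS Spor.HS := fun _ => HN.AutHS.nonempty_Q.1.elim fun e => sm_congr e.symm HSRow.smQ

end Cfsg.Agent.MK.S2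

private theorem dce_da6c2dfd38d0 : _root_.True := by
  try have : _root_.True := by simp only [_root_.Cfsg.Agent.MK.S2.HSRow.y.eq_1]
  try have : _root_.True := by simp only [_root_.Cfsg.Agent.MK.S.Pc.Cert.el.eq_1]
  exact _root_.True.intro
end

-- part: MK/Sp2/BRoot
section
prune_inst 0x7f00000000000000000000000000000000000000000000000000000000000000000000000000000000000000000000000000000000000000000000000000000000000000000000000000000000000000003fffffffffffffffffffffffffffbeffbdffffffff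
set_option linter.all false
open scoped Cfsg.Agent.FastGrp

/-!
# MK, `Sp_{2n}(2)`: roots as pairs of positions (helper43)

* `ps`, `ix` : signed indices and positions;  `RP x p q` : `x` is the root `e_p - e_q`;
* `SR k y c e` : the support `SP` as a set of roots;
* `fw cs w` : the negative of the signed permutation of `w`;  `fw_bj`, `fw_inj`, `fw_surj`, `RP.act`.
-/

set_option autoImplicit false
set_option maxHeartbeats 400000
set_option linter.unusedVariables false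

namespace Cfsg.Agent.MK.Sp2.B

open CoxeterSystem Cfsg Cfsg.Agent.ChevalleyStructure.CoxeterGeom Cfsg.Agent.Tits.Roots Cfsg.Agent.Nodes.TypeC
  Cfsg.Agent.H215.WB

variable {k : ℕ}

/-- the position of a signed index -/
def ps (a : Fin (k + 2) × Bool) : ℕ := if a.2 then a.1 else 2 * k + 3 - a.1

/-- the signed index of a position -/
def ix (k p : ℕ) : Fin (k + 2) × Bool :=
  if h : p < k + 2 then (⟨p, h⟩, true) else (⟨2 * k + 3 - p, by omega⟩, false)

theorem ps_true (i : Fin (k + 2)) : ps (i, true) = i := rfl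

theorem ps_false (i : Fin (k + 2)) : ps (i, false) = 2 * k + 3 - i := rfl

theorem ps_lt (a : Fin (k + 2) × Bool) : ps a < 2 * k + 4 := by
  obtain ⟨i, _ | _⟩ := a
  · rw [ps_false]; omega
  · rw [ps_true]; omega

theorem ps_ng (a : Fin (k + 2) × Bool) : ps (ng a) + ps a = 2 * k + 3 := by
  obtain ⟨i, _ | _⟩ := a
  · show ps (i, true) + ps (i, false) = _
    rw [ps_false, ps_true]; omega
  · show ps (i, false) + ps (i, true) = _
    rw [ps_false, ps_true]; omega

theorem ps_inj {a b : Fin (k + 2) × Bool} (h : ps a = ps b) : a = b := by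
  obtain ⟨i, _ | _⟩ := a <;> obtain ⟨j, _ | _⟩ := b <;> simp only [ps_true, ps_false] at h
  · rw [show i = j from Fin.ext (by omega)]
  · omega
  · omega
  · rw [show i = j from Fin.ext h]

theorem ps_ix {p : ℕ} (hp : p < 2 * k + 4) : ps (ix k p) = p := by
  unfold ix
  split_ifs with h
  · rfl
  · rw [ps_false]
    show 2 * k + 3 - (2 * k + 3 - p) = p
    omega

theorem ix_ps (a : Fin (k + 2) × Bool) : ix k (ps a) = a := ps_inj (ps_ix (ps_lt a))

theorem ix_bar {p q : ℕ} (h : p + q = 2 * k + 3) : ix k p = ng (ix k q) := by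
  have h1 := ps_ng (ix k q)
  rw [ps_ix (by omega)] at h1
  exact ps_inj (by rw [ps_ix (by omega)]; omega)

/-- `x = e_p - e_q` -/
def RP (x : Fin (k + 2) → ℤ) (p q : ℕ) : Prop := ee x = wt (ix k p) + wt (ng (ix k q))

theorem ok_ix {p q : ℕ} (hp : p < 2 * k + 4) (hq : q < 2 * k + 4) (h : p ≠ q) : Ok (ix k p) (ng (ix k q)) := by
  by_cases h1 : (ix k p).1 = (ix k q).1
  · right
    have h2 : ix k p ≠ ix k q := fun e => h (by rw [← ps_ix hp, e, ps_ix hq])
    generalize ix k p = a at h1 h2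
    generalize ix k q = b at h1 h2
    obtain ⟨i, s⟩ := a
    obtain ⟨j, t⟩ := b
    obtain rfl : i = j := h1
    cases s <;> cases t <;> first | rfl | exact absurd rfl h2
  · exact Or.inl h1

theorem RP.unique {x y : Fin (k + 2) → ℤ} {p q : ℕ} (h : RP x p q) (h' : RP y p q) : x = y :=
  ee_injective (h.trans h'.symm)

theorem RP.bar {x : Fin (k + 2) → ℤ} {p q p' q' : ℕ} (h : RP x p q) (h1 : p + q' = 2 * k + 3) (h2 : q + p' = 2 * k + 3) :
    RP x p' q' := by
  rw [RP, h, ix_bar h1, ix_bar h2, ng_ng]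
  exact add_comm _ _

theorem RP.eq {x : Fin (k + 2) → ℤ} {p q p' q' : ℕ} (h : RP x p q) (h' : RP x p' q') (hp : p < q) (hq : q < 2 * k + 4)
    (hp' : p' < q') (hq' : q' < 2 * k + 4) : (p = p' ∧ q = q') ∨ (p + q' = 2 * k + 3 ∧ q + p' = 2 * k + 3) := by
  have h1 := ps_ng (ix k q)
  have h2 := ps_ng (ix k q')
  rw [ps_ix hq] at h1
  rw [ps_ix hq'] at h2
  rcases wt_add_eq (ok_ix (by omega) hq hp.ne) (ok_ix (by omega) hq' hp'.ne) (h.symm.trans h') with ⟨e1, e2⟩ | ⟨e1, e2⟩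
  · have e3 := congrArg ps e1
    have e4 := congrArg ps e2
    rw [ps_ix (by omega), ps_ix (by omega)] at e3
    omega
  · have e3 := congrArg ps e1
    have e4 := congrArg ps e2
    rw [ps_ix (by omega)] at e3
    rw [ps_ix (p := p') (by omega)] at e4
    omega

theorem RP.add {x y : Fin (k + 2) → ℤ} {p q r : ℕ} (h : RP x p q) (h' : RP y q r) : RP (x + y) p r := by
  rw [RP, ee_add, h, h', wt_ng (ix k q)]
  abel

theorem RP.neg {x : Fin (k + 2) → ℤ} {p q : ℕ} (h : RP x p q) : RP (-x) q p := by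
  rw [RP, ee_neg, h, wt_ng, wt_ng]
  abel

theorem rp_sr (i : Fin (k + 2)) : RP (sr i) i (i + 1) := by
  rw [RP, ee_sr, bt, show ix k i = (i, true) from ix_ps (i, true)]
  congr 2
  unfold nx
  split_ifs with h
  · exact congrArg ng (ix_ps ((⟨i + 1, h⟩, true) : Fin (k + 2) × Bool)).symm
  · rw [← ix_bar (p := i) (by omega)]
    exact (ix_ps (i, true)).symm

/-- a linear form which is positive on the positive roots -/
def rh (v : Fin (k + 2) → ℤ) : ℤ := ∑ i, v i * (k + 2 - i)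

theorem rh_add (u v : Fin (k + 2) → ℤ) : rh (u + v) = rh u + rh v := by
  simp only [rh, Pi.add_apply, add_mul, Finset.sum_add_distrib]

theorem rh_wt (a : Fin (k + 2) × Bool) :
    rh (wt a) = if ps a < k + 2 then (k : ℤ) + 2 - ps a else (k : ℤ) + 1 - ps a := by
  rw [rh, Finset.sum_eq_single a.1 (fun b _ hb => by rw [wt_apply, if_neg hb, zero_mul]) (by simp), wt_apply, if_pos rfl]
  obtain ⟨i, _ | _⟩ := a
  · have := i.2
    rw [ps_false, if_neg (by omega : ¬ 2 * k + 3 - (i : ℕ) < k + 2)]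
    simp only [Bool.false_eq_true, if_false]
    omega
  · rw [ps_true, if_pos i.2]
    simp

theorem RP.rh_pos {x : Fin (k + 2) → ℤ} {p q : ℕ} (h : RP x p q) (hp : p < 2 * k + 4) (hq : q < 2 * k + 4) :
    0 < rh (ee x) ↔ p < q := by
  have h1 := ps_ng (ix k q)
  rw [ps_ix hq] at h1
  rw [h, rh_add, rh_wt, rh_wt, ps_ix hp]
  split_ifs <;> omega

theorem rh_nonneg {x : Fin (k + 2) → ℤ} (h : 0 ≤ x) : 0 ≤ rh (ee x) := by
  have h1 : rh (ee x) = ∑ j, x j * rh (bt j) := by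
    simp only [rh, ee, Finset.sum_apply, Pi.smul_apply, smul_eq_mul, Finset.sum_mul, Finset.mul_sum, mul_assoc]
    exact Finset.sum_comm
  rw [h1]
  refine Finset.sum_nonneg fun j _ => mul_nonneg (h j) ?_
  rw [← ee_sr]
  exact (((rp_sr j).rh_pos (by omega) (by omega)).2 (by omega)).le

theorem sp_bar {y c e p q p' q' : ℕ} (h1 : p + q' = 2 * k + 3) (h2 : q + p' = 2 * k + 3) (h : SP k y c e p q) :
    SP k y c e p' q' := by
  rcases h with ⟨h, h'⟩ | ⟨hy, ⟨h, h' | h'⟩ | ⟨h, h'⟩⟩ | ⟨hc, h, h'⟩ | ⟨he, h, h'⟩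
  · exact .inl ⟨by omega, by omega⟩
  · exact .inr (.inl ⟨hy, .inr ⟨by omega, by omega⟩⟩)
  · exact .inr (.inl ⟨hy, .inl ⟨by omega, .inr (by omega)⟩⟩)
  · exact .inr (.inl ⟨hy, .inl ⟨by omega, .inl (by omega)⟩⟩)
  · exact .inr (.inr (.inl ⟨hc, by omega, by omega⟩))
  · exact .inr (.inr (.inr ⟨he, by omega, by omega⟩))

/-- the support as a set of roots -/
def SR (k y c e : ℕ) : Set (Fin (k + 2) → ℤ) := {x | ∃ p q, p < q ∧ q < 2 * k + 4 ∧ RP x p q ∧ SP k y c e p q}

theorem RP.mem {x : Fin (k + 2) → ℤ} {p q y c e : ℕ} (h : RP x p q) (hp : p < q) (hq : q < 2 * k + 4) :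
    x ∈ SR k y c e ↔ SP k y c e p q := by
  refine ⟨fun ⟨p', q', h1, h2, h3, h4⟩ => ?_, fun h1 => ⟨p, q, hp, hq, h, h1⟩⟩
  rcases h3.eq h h1 h2 hp hq with ⟨rfl, rfl⟩ | ⟨h5, h6⟩
  · exact h4
  · exact sp_bar h5 h6 h4

theorem RP.eq_iff {x y : Fin (k + 2) → ℤ} {p q p' q' : ℕ} (h : RP x p q) (h' : RP y p' q') (hp : p < q)
    (hq : q < 2 * k + 4) (hp' : p' < q') (hq' : q' < 2 * k + 4) :
    x = y ↔ (p = p' ∧ q = q') ∨ (p + q' = 2 * k + 3 ∧ q + p' = 2 * k + 3) := by
  refine ⟨fun e => h.eq (e ▸ h') hp hq hp' hq', ?_⟩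
  rintro (⟨rfl, rfl⟩ | ⟨h1, h2⟩)
  · exact h.unique h'
  · exact (h.bar h1 h2).unique h'

/-- the long node -/
abbrev na (k : ℕ) : Fin (k + 2) := Fin.last (k + 1)

/-- the last short node -/
abbrev nb (k : ℕ) : Fin (k + 2) := (Fin.last k).castSucc

theorem rp_a : RP (sr (na k)) (k + 1) (k + 2) := rp_sr (na k)

theorem rp_b : RP (sr (nb k)) k (k + 1) := rp_sr (nb k)

theorem rp_ab : RP (sr (na k) + sr (nb k)) k (k + 2) := by
  rw [add_comm]
  exact rp_b.add rp_a

theorem rp_abb : RP (sr (na k) + sr (nb k) + sr (nb k)) k (k + 3) := rp_ab.add (rp_b.bar (by omega) (by omega))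

variable {W : Type*} [Group W] (cs : CoxeterSystem (CoxeterMatrix.B (k + 2)) W)

theorem exists_rp_root {p q : ℕ} (hp : p < 2 * k + 4) (hq : q < 2 * k + 4) (h : p ≠ q) :
    ∃ x, IsRoot cs (isCartan (k + 2)) x ∧ RP x p q := rt_of_ok (ok_ix hp hq h)

theorem RP.isRoot {x : Fin (k + 2) → ℤ} {p q : ℕ} (h : RP x p q) (hp : p < 2 * k + 4) (hq : q < 2 * k + 4) (hpq : p ≠ q) :
    IsRoot cs (isCartan (k + 2)) x := by
  obtain ⟨y, h1, h2⟩ := exists_rp_root cs hp hq hpq
  rwa [h.unique h2]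

variable {cs}

theorem exists_pq {x : Fin (k + 2) → ℤ} (hx : IsRoot cs (isCartan (k + 2)) x) :
    ∃ p q, p < 2 * k + 4 ∧ q < 2 * k + 4 ∧ p ≠ q ∧ RP x p q := by
  obtain ⟨a, b, h1, h2⟩ := exists_of_isRoot cs hx
  refine ⟨ps a, ps (ng b), ps_lt _, ps_lt _, fun e => ?_, by rw [RP, ix_ps, ix_ps, ng_ng, h2]⟩
  obtain rfl := ps_inj e
  rcases h1 with h1 | h1
  · exact h1 rfl
  · have := ps_ng b
    rw [h1] at this
    omega

theorem RP.nonneg {x : Fin (k + 2) → ℤ} (hx : IsRoot cs (isCartan (k + 2)) x) {p q : ℕ} (h : RP x p q)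
    (hp : p < 2 * k + 4) (hq : q < 2 * k + 4) (hpq : p ≠ q) : 0 ≤ x ↔ p < q := by
  have h1 : ∀ {x : Fin (k + 2) → ℤ} {p q : ℕ}, RP x p q → p < 2 * k + 4 → q < 2 * k + 4 → 0 ≤ x → ¬ q < p := by
    intro x p q h hp hq h0 h2
    have h3 := (h.neg.rh_pos hq hp).2 h2
    have h4 := rh_nonneg h0
    have h5 := rh_add (ee x) (ee (-x))
    rw [ee_neg, add_neg_cancel, ← ee_neg, show rh (0 : Fin (k + 2) → ℤ) = 0 by simp [rh]] at h5
    omega
  refine ⟨fun h0 => by have := h1 h hp hq h0; omega, fun h2 => ?_⟩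
  rcases hx.pos_or_neg with h3 | h3
  · exact h3
  · exact absurd h2 (h1 h.neg hq hp (neg_nonneg.2 h3))

theorem exists_pos_pq {x : Fin (k + 2) → ℤ} (hx : IsRoot cs (isCartan (k + 2)) x) (h0 : 0 ≤ x) :
    ∃ p q, p < q ∧ q < 2 * k + 4 ∧ RP x p q := by
  obtain ⟨p, q, h1, h2, h3, h4⟩ := exists_pq hx
  exact ⟨p, q, (h4.nonneg hx h1 h2 h3).1 h0, h2, h4⟩

variable (cs)

/-- the signed permutation -/
noncomputable def pw (w : W) : Equiv.Perm (Fin (k + 2) × Bool) := cc (homB cs w)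

theorem pw_mul (v w : W) (a : Fin (k + 2) × Bool) : pw cs (v * w) a = pw cs v (pw cs w a) := by
  rw [pw, map_mul, map_mul]
  rfl

theorem pw_ng (w : W) (a : Fin (k + 2) × Bool) : pw cs w (ng a) = ng (pw cs w a) := H493.CC.cc_ng _ a

theorem pw_inj {v w : W} (h : ∀ a, pw cs v a = pw cs w a) : v = w := homB_injective cs (cc_injective (Equiv.ext h))

/-- the negative of the signed permutation, on the positions -/
noncomputable def fw (w : W) (p : ℕ) : ℕ := ps (ng (pw cs w (ix k p)))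

theorem ix_fw (w : W) (p : ℕ) : ix k (fw cs w p) = ng (pw cs w (ix k p)) := ix_ps _

theorem fw_bj (w : W) : Bj k (fw cs w) where
  lt p _ := ps_lt _
  inj p q hp hq h := by
    have h1 := congrArg ng (ps_inj h)
    rw [ng_ng, ng_ng] at h1
    rw [← ps_ix hp, (pw cs w).injective h1, ps_ix hq]
  surj v hv := ⟨ps ((pw cs w).symm (ng (ix k v))), ps_lt _, by rw [fw, ix_ps, Equiv.apply_symm_apply, ng_ng, ps_ix hv]⟩
  sym p q h := by
    rw [fw, fw, ix_bar h, pw_ng]
    exact ps_ng _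

theorem fw_inj {v w : W} (h : ∀ p, p < 2 * k + 4 → fw cs v p = fw cs w p) : v = w := pw_inj cs fun a => by
  have h1 := congrArg ng (ps_inj (h _ (ps_lt a)))
  rwa [ng_ng, ng_ng, ix_ps] at h1

theorem fw_surj {f : ℕ → ℕ} (B : Bj k f) : ∃ w, ∀ p, p < 2 * k + 4 → fw cs w p = f p := by
  have h1 : Function.Injective fun a : Fin (k + 2) × Bool => ng (ix k (f (ps a))) := fun a b e => by
    have h2 := congrArg (fun c => ps (ng c)) e
    simp only [ng_ng] at h2
    rw [ps_ix (B.lt _ (ps_lt a)), ps_ix (B.lt _ (ps_lt b))] at h2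
    exact ps_inj (B.inj _ _ (ps_lt a) (ps_lt b) h2)
  obtain ⟨g, hg⟩ := H493.CC.exists_cc (Equiv.ofBijective _ (Finite.injective_iff_bijective.1 h1)) fun a =>
    congrArg ng (ix_bar (B.sym _ _ (ps_ng a)))
  obtain ⟨w, rfl⟩ := homB_surjective cs g
  refine ⟨w, fun p hp => ?_⟩
  rw [fw, pw, hg, Equiv.ofBijective_apply, ng_ng, ps_ix hp, ps_ix (B.lt p hp)]

theorem RP.act {x : Fin (k + 2) → ℤ} {p q : ℕ} (h : RP x p q) (w : W) :
    RP (rep cs (isCartan (k + 2)) w x) (fw cs w q) (fw cs w p) := by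
  rw [RP, ee_act cs w x _ _ h, ix_fw, ix_fw, ng_ng, ← pw_ng]
  exact add_comm _ _

theorem fw_sw (w : W) {p : ℕ} (hp : p < 2 * k + 4) : fw cs (w * cs.simple (na k)) p = fw cs w (sw k p) := by
  have h1 : ¬ ((na k : Fin (k + 2)) : ℕ) + 1 < k + 2 := by simp
  rw [fw, fw, pw_mul]
  congr 3
  rw [pw, homB_simple, cc_gen, P_apply]
  by_cases h2 : p = k + 1
  · rw [h2, sw_one, show ix k (k + 1) = (na k, true) from ix_ps (na k, true), sg_last h1,
      ix_bar (p := k + 2) (q := k + 1) (by omega), show ix k (k + 1) = (na k, true) from ix_ps (na k, true)]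
    rfl
  by_cases h3 : p = k + 2
  · rw [h3, sw_two, ix_bar (p := k + 2) (q := k + 1) (by omega), sg_ng,
      show ix k (k + 1) = (na k, true) from ix_ps (na k, true), sg_last h1]
    rfl
  rw [sw_of (by omega)]
  have h4 := ps_ix hp
  generalize ix k p = a at h4
  obtain ⟨i, s⟩ := a
  have h5 := i.2
  refine sg_of_ne (fun e => ?_) (by simp; omega)
  obtain rfl : i = na k := e
  cases s
  · rw [ps_false] at h4
    simp at h4
    omega
  · exact h2 h4.symm

theorem sq_of_fw {w : W} (h : ∀ p, p < 2 * k + 4 → fw cs w (fw cs w p) = p) : w * w = 1 := pw_inj cs fun a => by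
  have h1 := h _ (ps_lt a)
  rw [fw, ix_fw, pw_ng, ng_ng, ix_ps, ← pw_mul] at h1
  rw [ps_inj h1, pw, map_one, map_one]
  rfl

theorem Cm.congr {y c e y' c' e' : ℕ} {f g : ℕ → ℕ} (C : Cm k y c e y' c' e' f) (h : ∀ p, p < 2 * k + 4 → g p = f p) :
    Cm k y c e y' c' e' g := fun p q h1 h2 => by
  rw [h p (by omega), h q h2]
  exact C p q h1 h2

end Cfsg.Agent.MK.Sp2.B

private theorem dce_e8a000dfb1b7 : _root_.True := by
  try have : _root_.True := by simp only [_root_.Cfsg.Agent.MK.Sp2.B.fw.eq_1]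
  try have : _root_.True := by simp only [_root_.Cfsg.Agent.MK.Sp2.B.rh.eq_1]
  try have : _root_.True := by simp only [_root_.Cfsg.Agent.MK.Sp2.B.pw.eq_1]
  try have : _root_.True := by simp only [_root_.Cfsg.Agent.MK.Sp2.B.RP.eq_1]
  exact _root_.True.intro
end

-- part: MK/S5/J1
section
set_option linter.all false
open scoped Cfsg.Agent.FastGrp

/-!
# MK, the small row of the first Janko group (helper55)

The Sylow `2`-subgroup is elementary abelian of order eight and its own centraliser.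
-/

set_option autoImplicit false
set_option maxHeartbeats 400000

namespace Cfsg.Agent.MK.S5

open Subgroup Cfsg.Agent.MK.T Cfsg.Agent.MK.S Cfsg.Agent.OddHalf.D4.Spor.J1Out

/-- **the row of `J₁`** -/
theorem j1 : SmS Spor.J1 := fun _ => by
  have := two_prime
  have := TAB.J1.finite
  have hs : IsSimpleGroup Spor.J1 := SporadicB.J1.Main.isJ1.1
  let Q : Sylow 2 Spor.J1 := Sylow.ofCard EE (card_EE.trans card_pow)
  have hQ : ∀ {x}, x ∈ (Q : Subgroup Spor.J1) ↔ ∃ i, f i = x := mem_EE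
  refine sm_of_one (center_eq_bot ⟨nn, f 1, fun e => ?_⟩) (index_one inn) (M0.of_one Q ?_)
  · have h1 := nn_conj 1
    rw [e, mul_inv_cancel_right] at h1
    exact absurd (f_inj h1) (by decide)
  · have : (Q.subtype (le_normalizer (H := Q.toSubgroup))).toSubgroup.Normal := normal_in_normalizer (H := Q.toSubgroup)
    rw [k0_of_degList TAB.J1.deg, L.k0_eight (Q.subtype le_normalizer) ?_ (fun x hx => ?_) fun x hx => ?_]
    · decide
    · rw [Sylow.coe_subtype, Nat.card_congr (subgroupOfEquivOfLe le_normalizer).toEquiv]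
      exact card_EE
    · obtain ⟨i, hi⟩ := hQ.1 hx
      exact Subtype.ext (by rw [coe_mul, coe_one, ← f_sq i, hi]; rfl)
    · obtain ⟨i, hi⟩ := centE (g := x) fun i =>
        (congrArg Subtype.val (mem_centralizer_iff.1 hx ⟨f i, le_normalizer (hQ.2 ⟨i, rfl⟩)⟩ (hQ.2 ⟨i, rfl⟩))).symm
      exact hQ.2 ⟨i, hi.symm⟩

end Cfsg.Agent.MK.S5
end

-- part: MK/Sp2/BMat
section
prune_inst 0x7f00000000000000000000000000000000000000000000000000000000000000000000000000000000000000000000000000000000000000000000000000000000000000000000000000000000000000003fffffffffffffffffffffffffffbeffbdffffffff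
set_option linter.all false
open scoped Cfsg.Agent.FastGrp

/-!
# MK, `Sp_{2n}(2)`: block triangular matrices (helper43)

* `en A p q` : the entries by positions;  `Tr A` : block triangular matrices with a symplectic middle block;
* `Tr.mul`, `sup_mul`, `ph_mul`, `sn_mul` : the additive functions on them;
* `en_x`, `tr_x`, `tr_n` : the root elements and the long reflection.
-/

set_option autoImplicit false
set_option maxHeartbeats 400000
set_option linter.unusedVariables false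

namespace Cfsg.Agent.MK.Sp2.B

open CoxeterSystem Cfsg Cfsg.Agent.ChevalleyStructure.CoxeterGeom Cfsg.Agent.Tits.Roots Cfsg.Agent.Nodes.TypeC
  Cfsg.Agent.ODD.C2

variable {k : ℕ}

/-- the matrices -/
abbrev Mt (k : ℕ) : Type := Matrix (Fin (k + 2) × Bool) (Fin (k + 2) × Bool) (ZMod 2)

/-- the entries -/
def en (A : Mt k) (p q : ℕ) : ZMod 2 := A (ix k p) (ix k q)

theorem ix_eq {p q : ℕ} (hp : p < 2 * k + 4) (hq : q < 2 * k + 4) : ix k p = ix k q ↔ p = q :=
  ⟨fun e => by rw [← ps_ix hp, e, ps_ix hq], fun e => e ▸ rfl⟩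

theorem en_mul (A B : Mt k) (p q : ℕ) : en (A * B) p q = ∑ r ∈ Finset.range (2 * k + 4), en A p r * en B r q := by
  rw [en, Matrix.mul_apply]
  exact Finset.sum_nbij' ps (ix k) (fun a _ => Finset.mem_range.2 (ps_lt a)) (fun _ _ => Finset.mem_univ _)
    (fun a _ => ix_ps a) (fun r hr => ps_ix (Finset.mem_range.1 hr)) fun a _ => by rw [en, en, ix_ps]

theorem en_one {p q : ℕ} (hp : p < 2 * k + 4) (hq : q < 2 * k + 4) : en (1 : Mt k) p q = if p = q then 1 else 0 := by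
  simp only [en, Matrix.one_apply, ix_eq hp hq]

/-- block triangular with a symplectic middle block -/
structure Tr (A : Mt k) : Prop where
  tri : ∀ p q, q < p → p < 2 * k + 4 → ¬ (p = k + 2 ∧ q = k + 1) → en A p q = 0
  dg : ∀ p, p < 2 * k + 4 → p ≠ k + 1 → p ≠ k + 2 → en A p p = 1
  det : en A (k + 1) (k + 1) * en A (k + 2) (k + 2) + en A (k + 1) (k + 2) * en A (k + 2) (k + 1) = 1
  c2 : en A (k + 1) (k + 3) = en A (k + 1) (k + 1) * en A k (k + 2) + en A (k + 1) (k + 2) * en A k (k + 1)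
  c3 : en A (k + 2) (k + 3) = en A (k + 2) (k + 1) * en A k (k + 2) + en A (k + 2) (k + 2) * en A k (k + 1)

variable {A B : Mt k}

theorem en_sub (a : Tr A) (b : Tr B) {p q : ℕ} (hp : p < 2 * k + 4) (s : Finset ℕ) (h1 : ∀ r ∈ s, r < 2 * k + 4)
    (h2 : ∀ r, r ∉ s → (r < p ∧ ¬ (p = k + 2 ∧ r = k + 1)) ∨ (q < r ∧ ¬ (r = k + 2 ∧ q = k + 1))) :
    en (A * B) p q = ∑ r ∈ s, en A p r * en B r q := by
  rw [en_mul]
  refine (Finset.sum_subset (fun r hr => Finset.mem_range.2 (h1 r hr)) fun r hr h3 => ?_).symm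
  rcases h2 r h3 with h4 | h4
  · rw [a.tri p r h4.1 hp h4.2, zero_mul]
  · rw [b.tri r q h4.1 (Finset.mem_range.1 hr) h4.2, mul_zero]

theorem en_mid (a : Tr A) (b : Tr B) {p q : ℕ} (h1 : k ≤ p) (h2 : p ≤ k + 3) (h3 : q ≤ k + 3) :
    en (A * B) p q = en A p k * en B k q + en A p (k + 1) * en B (k + 1) q + en A p (k + 2) * en B (k + 2) q +
      en A p (k + 3) * en B (k + 3) q := by
  rw [en_sub a b (by omega) {k, k + 1, k + 2, k + 3} (fun r hr => by simp at hr; omega) fun r hr => by simp at hr; omega,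
    Finset.sum_insert (by simp), Finset.sum_insert (by simp), Finset.sum_pair (by simp)]
  ring

theorem sup_mul (a : Tr A) (b : Tr B) {i : ℕ} (hi : i < k) : en (A * B) i (i + 1) = en A i (i + 1) + en B i (i + 1) := by
  rw [en_sub a b (by omega) {i, i + 1} (fun r hr => by simp at hr; omega) fun r hr => by simp at hr; omega,
    Finset.sum_pair (by simp), a.dg i (by omega) (by omega) (by omega), b.dg (i + 1) (by omega) (by omega) (by omega)]
  ring

theorem mid_mul (a : Tr A) (b : Tr B) :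
    en (A * B) k (k + 1) = en B k (k + 1) + en A k (k + 1) * en B (k + 1) (k + 1) + en A k (k + 2) * en B (k + 2) (k + 1) ∧
    en (A * B) k (k + 2) = en B k (k + 2) + en A k (k + 1) * en B (k + 1) (k + 2) + en A k (k + 2) * en B (k + 2) (k + 2) ∧
    en (A * B) k (k + 3) = en B k (k + 3) + en A k (k + 1) * en B (k + 1) (k + 3) + en A k (k + 2) * en B (k + 2) (k + 3) +
      en A k (k + 3) ∧
    (∀ p q, p = k + 1 ∨ p = k + 2 → q = k + 1 ∨ q = k + 2 →
      en (A * B) p q = en A p (k + 1) * en B (k + 1) q + en A p (k + 2) * en B (k + 2) q) ∧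
    ∀ p, p = k + 1 ∨ p = k + 2 →
      en (A * B) p (k + 3) = en A p (k + 1) * en B (k + 1) (k + 3) + en A p (k + 2) * en B (k + 2) (k + 3) + en A p (k + 3) := by
  have h1 := a.dg k (by omega) (by omega) (by omega)
  have h2 := b.dg (k + 3) (by omega) (by omega) (by omega)
  refine ⟨?_, ?_, ?_, fun p q hp hq => ?_, fun p hp => ?_⟩
  · rw [en_mid a b le_rfl (by omega) (by omega), h1, b.tri (k + 3) _ (by omega) (by omega) (by omega)]; ring
  · rw [en_mid a b le_rfl (by omega) (by omega), h1, b.tri (k + 3) _ (by omega) (by omega) (by omega)]; ring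
  · rw [en_mid a b le_rfl (by omega) (by omega), h1, h2]; ring
  · rw [en_mid a b (by omega) (by omega) (by omega), a.tri p k (by omega) (by omega) (by omega),
      b.tri (k + 3) q (by omega) (by omega) (by omega)]; ring
  · rw [en_mid a b (by omega) (by omega) (by omega), a.tri p k (by omega) (by omega) (by omega), h2]; ring

theorem fin_det : ∀ a b c d a' b' c' d' : ZMod 2, a * d + b * c = 1 → a' * d' + b' * c' = 1 →
    (a * a' + b * c') * (c * b' + d * d') + (a * b' + b * d') * (c * a' + d * c') = 1 ∧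
    (a * b' + b * d') + (c * a' + d * c') + (a * b' + b * d') * (c * a' + d * c') + (a * a' + b * c') + (c * b' + d * d') =
      (b + c + b * c + a + d) + (b' + c' + b' * c' + a' + d') := by decide +kernel

theorem fin_col : ∀ a b s u s' u' a' b' c' d' : ZMod 2, a' * d' + b' * c' = 1 →
    a * (a' * u' + b' * s') + b * (c' * u' + d' * s') + (a * u + b * s) =
      (a * a' + b * c') * (u' + s * b' + u * d') + (a * b' + b * d') * (s' + s * a' + u * c') := by decide +kernel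

theorem fin_ph : ∀ w w' s u s' u' a' b' c' d' : ZMod 2, a' * d' + b' * c' = 1 →
    (w' + s * (a' * u' + b' * s') + u * (c' * u' + d' * s') + w) + (s' + s * a' + u * c') + (u' + s * b' + u * d') +
      (s' + s * a' + u * c') * (u' + s * b' + u * d') = (w + s + u + s * u) + (w' + s' + u' + s' * u') := by decide +kernel

theorem Tr.mul (a : Tr A) (b : Tr B) : Tr (A * B) := by
  obtain ⟨h1, h2, -, h4, h5⟩ := mid_mul a b
  refine ⟨fun p q h6 h7 h8 => ?_, fun p h6 h7 h8 => ?_, ?_, ?_, ?_⟩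
  · rw [en_sub a b h7 ∅ (by simp) fun r _ => by omega, Finset.sum_empty]
  · rw [en_sub a b h6 {p} (fun r hr => by simp at hr; omega) fun r hr => by simp at hr; omega, Finset.sum_singleton,
      a.dg p h6 h7 h8, b.dg p h6 h7 h8, mul_one]
  · rw [h4 _ _ (.inl rfl) (.inl rfl), h4 _ _ (.inl rfl) (.inr rfl), h4 _ _ (.inr rfl) (.inl rfl), h4 _ _ (.inr rfl) (.inr rfl)]
    exact (fin_det _ _ _ _ _ _ _ _ a.det b.det).1
  · rw [h1, h2, h4 _ _ (.inl rfl) (.inl rfl), h4 _ _ (.inl rfl) (.inr rfl), h5 _ (.inl rfl), a.c2, b.c2, b.c3]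
    exact fin_col _ _ _ _ _ _ _ _ _ _ b.det
  · rw [h1, h2, h4 _ _ (.inr rfl) (.inl rfl), h4 _ _ (.inr rfl) (.inr rfl), h5 _ (.inr rfl), a.c3, b.c2, b.c3]
    exact fin_col _ _ _ _ _ _ _ _ _ _ b.det

/-- the invariant additive function -/
def ph (A : Mt k) : ZMod 2 := en A k (k + 3) + en A k (k + 1) + en A k (k + 2) + en A k (k + 1) * en A k (k + 2)

/-- the sign of the middle block -/
def sn (A : Mt k) : ZMod 2 := en A (k + 1) (k + 2) + en A (k + 2) (k + 1) + en A (k + 1) (k + 2) * en A (k + 2) (k + 1) +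
  en A (k + 1) (k + 1) + en A (k + 2) (k + 2)

theorem ph_mul (a : Tr A) (b : Tr B) : ph (A * B) = ph A + ph B := by
  obtain ⟨h1, h2, h3, -⟩ := mid_mul a b
  rw [ph, h1, h2, h3, b.c2, b.c3]
  exact fin_ph _ _ _ _ _ _ _ _ _ _ b.det

theorem sn_mul (a : Tr A) (b : Tr B) : sn (A * B) = sn A + sn B := by
  obtain ⟨-, -, -, h4, -⟩ := mid_mul a b
  rw [sn, h4 _ _ (.inl rfl) (.inl rfl), h4 _ _ (.inl rfl) (.inr rfl), h4 _ _ (.inr rfl) (.inl rfl), h4 _ _ (.inr rfl) (.inr rfl)]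
  exact (fin_det _ _ _ _ _ _ _ _ a.det b.det).2

/-- the unitriangular ones -/
def Tu (A : Mt k) : Prop := Tr A ∧ en A (k + 2) (k + 1) = 0

theorem fin_one : ∀ a b d : ZMod 2, a * d + b * 0 = 1 → a = 1 ∧ d = 1 := by decide

theorem Tu.dg (a : Tu A) : en A (k + 1) (k + 1) = 1 ∧ en A (k + 2) (k + 2) = 1 := fin_one _ _ _ (a.2 ▸ a.1.det)

theorem Tu.mul (a : Tu A) (b : Tu B) : Tu (A * B) :=
  ⟨a.1.mul b.1, by rw [(mid_mul a.1 b.1).2.2.2.1 _ _ (.inr rfl) (.inl rfl), a.2, b.2]; ring⟩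

theorem sup_mul' (a : Tu A) (b : Tu B) {i : ℕ} (hi : i < k + 2) :
    en (A * B) i (i + 1) = en A i (i + 1) + en B i (i + 1) := by
  obtain ⟨h1, -, -, h4, -⟩ := mid_mul a.1 b.1
  rcases Nat.lt_trichotomy i k with h | rfl | h
  · exact sup_mul a.1 b.1 h
  · rw [h1, b.dg.1, b.2]; ring
  · obtain rfl : i = k + 1 := by omega
    rw [h4 _ _ (.inl rfl) (.inr rfl), a.dg.1, b.dg.2]; ring

theorem sn_tu (a : Tu A) : sn A = en A (k + 1) (k + 2) := by
  rw [sn, a.2, a.dg.1, a.dg.2]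
  generalize en A (k + 1) (k + 2) = t
  revert t
  decide

theorem st_ix {x : Fin (k + 2) → ℤ} {p q : ℕ} : (mnC (k + 2)).St x (ix k p) (ix k q) ↔ RP x p q := by
  show wt (ix k p) = wt (ix k q) + ee x ↔ _
  rw [RP, wt_ng, ← sub_eq_add_neg, eq_comm, eq_sub_iff_add_eq']

theorem RP.iff {x : Fin (k + 2) → ℤ} {p0 q0 p q : ℕ} (r : RP x p0 q0) (h1 : p0 < q0) (h2 : q0 < 2 * k + 4)
    (hp : p < 2 * k + 4) (hq : q < 2 * k + 4) :
    RP x p q ↔ (p0 = p ∧ q0 = q) ∨ (p0 + q = 2 * k + 3 ∧ q0 + p = 2 * k + 3) :=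
  ⟨fun h => r.eq h h1 h2 ((h.rh_pos hp hq).1 ((r.rh_pos (by (solve | lia | omega)) h2).2 h1)) hq, by
    rintro (⟨rfl, rfl⟩ | ⟨h3, h4⟩)
    exacts [r, r.bar h3 h4]⟩

open Classical in
theorem en_x {x : Fin (k + 2) → ℤ} (hx : IsRoot (csC (k + 2)) (isCartan (k + 2)) x) (s : ZMod 2) {p q : ℕ}
    (hp : p < 2 * k + 4) (hq : q < 2 * k + 4) :
    en ((mnC (k + 2)).x (ZMod 2) x s : Mt k) p q = (if p = q then 1 else 0) + if RP x p q then s else 0 := by
  rw [en, Mn.x_apply _ hx]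
  simp only [ix_eq hp hq, st_ix]

theorem tu_x {x : Fin (k + 2) → ℤ} (hx : IsRoot (csC (k + 2)) (isCartan (k + 2)) x) (h0 : 0 ≤ x) (s : ZMod 2) :
    Tu ((mnC (k + 2)).x (ZMod 2) x s : Mt k) := by
  obtain ⟨p0, q0, h1, h2, r⟩ := exists_pos_pq hx h0
  have h3 : ∀ p q, q ≤ p → p < 2 * k + 4 → en ((mnC (k + 2)).x (ZMod 2) x s : Mt k) p q = if p = q then 1 else 0 :=
    fun p q h4 h5 => by rw [en_x hx s h5 (by omega), if_neg (c := RP x p q) (by rw [r.iff h1 h2 h5 (by omega)]; omega), add_zero]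
  have h4 : ∀ p q, p < q → q < 2 * k + 4 → en ((mnC (k + 2)).x (ZMod 2) x s : Mt k) p q =
      if (p0 = p ∧ q0 = q) ∨ (p0 + q = 2 * k + 3 ∧ q0 + p = 2 * k + 3) then s else 0 := fun p q h4 h5 => by
    rw [en_x hx s (by omega) h5, if_neg h4.ne, zero_add]
    simp only [r.iff h1 h2 (by omega : p < 2 * k + 4) h5]
  have h5 := h3 (k + 1) (k + 1) le_rfl (by omega)
  have h6 := h3 (k + 2) (k + 2) le_rfl (by omega)
  have h7 := h3 (k + 2) (k + 1) (by omega) (by omega)
  rw [if_pos rfl] at h5 h6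
  rw [if_neg (by omega)] at h7
  refine ⟨⟨fun p q h8 h9 _ => by rw [h3 p q h8.le h9, if_neg h8.ne'], fun p h8 _ _ => by rw [h3 p p le_rfl h8, if_pos rfl],
    by rw [h5, h6, h7]; ring, ?_, ?_⟩, h7⟩
  · rw [h5, h4 _ _ (by omega) (by omega), h4 _ _ (by omega) (by omega), h4 _ _ (by omega) (by omega),
      h4 _ _ (by omega) (by omega)]
    split_ifs <;> [(solve | lia | omega); (solve | lia | omega); (solve | lia | omega); ring; (solve | lia | omega); (solve | lia | omega); (solve | lia | omega);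
                   (solve | lia | omega); (solve | lia | omega); (solve | lia | omega); (solve | lia | omega); (solve | lia | omega); (solve | lia | omega); ring; ring;
                   ring]
  · rw [h6, h7, h4 _ _ (by omega) (by omega), h4 k (k + 1) (by omega) (by omega)]
    split_ifs <;> first | omega | ring

theorem sg_ix {p : ℕ} (hp : p < 2 * k + 4) : sg (na k) (ix k p) = ix k (sw k p) := by
  have h1 := congrArg ng (ps_inj (fw_sw (csC (k + 2)) 1 hp))
  rw [ng_ng, ng_ng, one_mul, pw, pw, H215.WB.homB_simple, H215.WB.cc_gen, map_one, map_one] at h1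
  exact h1

theorem tr_n : Tr ((mnC (k + 2)).n (ZMod 2) (isCartan (k + 2)) (na k) : Mt k) := by
  have h1 : ∀ p q, p < 2 * k + 4 → q < 2 * k + 4 →
      en ((mnC (k + 2)).n (ZMod 2) (isCartan (k + 2)) (na k) : Mt k) p q = if p = sw k q then 1 else 0 := fun p q hp hq => by
    rw [en, Mn.n, pm_apply]
    simp only [← ix_eq hp (sw_lt hq), ← sg_ix hq]
    rfl
  have h2 := sw_one k
  have h3 := sw_two k
  have h4 := sw_of (k := k) (p := k + 3) (by omega)
  refine ⟨fun p q h5 h6 h7 => ?_, fun p h5 h6 h7 => ?_, ?_, ?_, ?_⟩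
  · rw [h1 p q h6 (by omega), if_neg (by unfold sw; split_ifs <;> omega)]
  · rw [h1 p p h5 h5, if_pos (sw_of (by omega)).symm]
  all_goals
    repeat rw [h1 _ _ (by omega) (by omega)]
    split_ifs <;> first | omega | ring

theorem tu_one : Tu (1 : Mt k) := by
  refine ⟨⟨fun p q h5 h6 h7 => ?_, fun p h5 h6 h7 => ?_, ?_, ?_, ?_⟩, ?_⟩
  · rw [en_one h6 (by omega), if_neg h5.ne']
  · rw [en_one h5 h5, if_pos rfl]
  all_goals
    repeat rw [en_one (by omega) (by omega)]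
    split_ifs <;> first | omega | ring

end Cfsg.Agent.MK.Sp2.B

private theorem dce_408bb7f93e75 : _root_.True := by
  try have : _root_.True := by simp only [_root_.Cfsg.Agent.MK.Sp2.B.sn.eq_1]
  try have : _root_.True := by simp only [_root_.Cfsg.Agent.MK.Sp2.B.ph.eq_1]
  try have : _root_.True := by simp only [_root_.Cfsg.Agent.ODD.C2.Mn.sp.congr_simp]
  try have : _root_.True := by simp only [_root_.Cfsg.Agent.MK.Sp2.B.en.eq_1]
  exact _root_.True.intro
end

-- part: MK/S2/J3Inn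
section
set_option linter.all false
open scoped Cfsg.Agent.FastGrp

/-!
# MK, `3.J₃`: the automorphisms which fix the centre are inner; the Sylow normaliser of `J₃` (helper39)

* `J3I.inn` : an automorphism of a perfect triple cover of `J₃` which fixes the centre is inner;
* `J3I.cyc_of_sheet`, `J3I.cyc_of_model`, `J3I.cycN` : `N(T)/T` is cyclic.
-/

set_option autoImplicit false

namespace Cfsg.Agent.MK.S2.J3I

open Cfsg Subgroup Cfsg.Spor Cfsg.Agent.MK.T Cfsg.Agent.MK.S Cfsg.Agent.GAL.Spor Cfsg.Agent.ODD.Alt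
open Cfsg.Agent.OddHalf.D8.JTwo.Sheet

section cyc

variable {S L : Type} [Group S] [Finite S] [Group L] [Finite L]

/-- `CycN` at every Sylow subgroup -/
theorem cyc_sylow (h : CycN S) (P : Sylow 2 S) : ∃ w ∈ normalizer ((P : Subgroup S) : Set S),
    ∀ g ∈ normalizer ((P : Subgroup S) : Set S), ∃ q ∈ (P : Subgroup S), ∃ k : ℕ, g = q * w ^ k := by
  have : Fact (Nat.Prime 2) := ⟨Nat.prime_two⟩
  obtain ⟨T, w, hw, hT⟩ := h
  obtain ⟨c, rfl⟩ := MulAction.exists_smul_eq S T P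
  refine ⟨c * w * c⁻¹, mem_normalizer_fintype fun x hx => ?_, fun g hg => ?_⟩
  · refine (mem_smul_iff c T _).2 ?_
    rw [show c⁻¹ * (c * w * c⁻¹ * x * (c * w * c⁻¹)⁻¹) * c = w * (c⁻¹ * x * c) * w⁻¹ by group]
    exact (mem_normalizer_iff.1 hw _).1 ((mem_smul_iff c T x).1 hx)
  · obtain ⟨q, hq, k, hk⟩ := hT (c⁻¹ * g * c) (mem_normalizer_fintype fun x hx => by
      have h2 := (mem_normalizer_iff.1 hg (c * x * c⁻¹)).1 (by
        rw [mem_smul_iff, show c⁻¹ * (c * x * c⁻¹) * c = x by group]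
        exact hx)
      rw [mem_smul_iff] at h2
      rw [show c⁻¹ * g * c * x * (c⁻¹ * g * c)⁻¹ = c⁻¹ * (g * (c * x * c⁻¹) * g⁻¹) * c by group]
      exact h2)
    refine ⟨c * q * c⁻¹, ?_, k, ?_⟩
    · rw [mem_smul_iff, show c⁻¹ * (c * q * c⁻¹) * c = q by group]
      exact hq
    · rw [conj_pow, show g = c * (c⁻¹ * g * c) * c⁻¹ by group, hk]
      group

/-- reduction to `C(z)/R` -/
theorem cyc_of_sheet {z : S} {P R : Subgroup S} (h : SheetX z P R) (π : centralizer ({z} : Set S) →* L)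
    (hs : Function.Surjective π) (hk : ∀ x, π x = 1 → (x : S) ∈ R) (hc : CycN L) : CycN S := by
  obtain ⟨Q, hz, h1, hu⟩ := h.syl
  have hQ : (Q : Subgroup S) ≤ centralizer ({z} : Set S) := fun x hx => mem_centralizer_singleton_iff.2 (h1 x hx)
  obtain ⟨w, hw, hT⟩ := cyc_sylow hc (im hQ π hs)
  obtain ⟨w, rfl⟩ := hs w
  have key : ∀ x : centralizer ({z} : Set S), π x ∈ (im hQ π hs : Subgroup L) → (x : S) ∈ (Q : Subgroup S) := by
    intro x hx
    obtain ⟨y, hy, e⟩ := mem_im.1 hx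
    have h2 := h.R_le_sylow Q h1 (hk (y⁻¹ * x) (by rw [map_mul, map_inv, e, inv_mul_cancel]))
    exact (Subgroup.mul_mem_cancel_left _ (inv_mem hy)).1 h2
  refine ⟨Q, w, mem_normalizer_fintype fun q hq => key (w * ⟨q, hQ hq⟩ * w⁻¹) ?_, fun g hg => ?_⟩
  · rw [map_mul, map_mul, map_inv]
    exact (mem_normalizer_iff.1 hw _).1 (mem_im.2 ⟨_, hq, rfl⟩)
  have hg' : g ∈ centralizer ({z} : Set S) := by
    have h2 : MulAut.conj g z = z := fix_z h.z1 hz h1 hu fun q hq => (mem_normalizer_iff.1 hg q).1 hq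
    rw [mem_centralizer_singleton_iff]
    exact mul_inv_eq_iff_eq_mul.1 h2
  obtain ⟨q, hq, k, e⟩ := hT (π ⟨g, hg'⟩) (mem_normalizer_fintype fun l hl => by
    obtain ⟨x, hx, rfl⟩ := mem_im.1 hl
    exact mem_im.2 ⟨⟨g, hg'⟩ * x * ⟨g, hg'⟩⁻¹, (mem_normalizer_iff.1 hg x).1 hx, by rw [map_mul, map_mul, map_inv]⟩)
  refine ⟨g * ((w : S) ^ k)⁻¹, key (⟨g, hg'⟩ * (w ^ k)⁻¹) ?_, k, by rw [inv_mul_cancel_right]⟩
  rw [map_mul, map_inv, map_pow, e, mul_inv_cancel_right]
  exact hq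

theorem cyc5 : CycN A5 := by
  have h1 : ∀ g : A5, g * t5 = t5 * g → c5 * g * c5⁻¹ * t5 = t5 * (c5 * g * c5⁻¹) := by (set_option synthInstance.maxSize 9000 in open scoped Cfsg.Agent.Lib.FastPerm in decide +kernel)
  have h2 : ∀ g : A5, g * t5 * g⁻¹ * t5 = t5 * (g * t5 * g⁻¹) →
      ∃ k : Fin 3, g * (c5 ^ (k : ℕ))⁻¹ * t5 = t5 * (g * (c5 ^ (k : ℕ))⁻¹) := by (set_option synthInstance.maxSize 9000 in open scoped Cfsg.Agent.Lib.FastPerm in decide +kernel)
  refine ⟨Q5, c5, mem_normalizer_fintype fun g hg => mem_Q5.2 (h1 g (mem_Q5.1 hg)), fun g hg => ?_⟩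
  obtain ⟨k, hk⟩ := h2 g (mem_Q5.1 ((mem_normalizer_iff.1 hg _).1 (mem_Q5.2 rfl)))
  exact ⟨_, mem_Q5.2 hk, k, by rw [inv_mul_cancel_right]⟩

open Cfsg.Agent.J2Type.Model in
/-- `C(z) = 2^{1+4}_- : A₅` -/
theorem cyc_of_model {z : S} {Q : Subgroup (centralizer ({z} : Set S))}
    {z' : centralizer ({z} : Set S)} {v : Fin 5 → centralizer ({z} : Set S)} {ρ : centralizer ({z} : Set S) →* SP}
    (M : IsModel Q z' v ρ) (h : SheetX z (centralizer ({z} : Set S)) (Q.map (centralizer ({z} : Set S)).subtype)) :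
    CycN S :=
  cyc_of_sheet h (H72.ModelFacts.proj M) (H72.ModelFacts.proj_surj M) (fun x hx => by
    rw [← MonoidHom.mem_ker, H72.ModelFacts.proj_ker] at hx
    exact ⟨x, hx, rfl⟩) cyc5

theorem cycN_iso (h : IsoJ3 S) : CycN S := by
  obtain ⟨z, Q, v, ρ, M, -, -, hE⟩ := OddHalf.D8.RowJ3.sheet' S h
  exact cyc_of_model M (of_sheetE hE)

end cyc

variable {F : Type} [Field F] [Fintype F] {ω : F}

theorem finite_J3 (hF : Fintype.card F = 4) (hω : ω ^ 2 + ω + 1 = 0) : Finite (J3 F ω) :=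
  Nat.finite_of_card_ne_zero (by rw [J3.Simple.card_J3 hF (J3.Core.good_of_card hF hω)]; norm_num)

/-- **the Sylow normaliser of `J₃` is cyclic modulo the Sylow subgroup** -/
theorem cycN (hF : Fintype.card F = 4) (hω : ω ^ 2 + ω + 1 = 0) : CycN (J3 F ω) :=
  have := finite_J3 hF hω
  cycN_iso (H55.JThree.isoJ3 hF hω)

open Cfsg.Agent.J3.Core Cfsg.Agent.J3.Elts Cfsg.Agent.J3.Nineteen Cfsg.Agent.H55.JThree in
/-- the semilinear automorphism moves the centre -/
theorem phi_moves (hF : Fintype.card F = 4) (H : Good ω) : ∃ s ∈ center (threeJ3 F ω), phi hF H s ≠ s := by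
  obtain ⟨G⟩ := exists_gens hF H
  obtain ⟨s, hs⟩ := exists_scalar H G
  refine ⟨s, by rw [center_eq hF H hs]; exact mem_zpowers s, fun h1 => ?_⟩
  have h2 := congrArg (fun t => mat ω t (0 : F9) (0 : F9)) h1
  simp only [mat_phi, phiM_apply, hs] at h2
  have h3 : cj 0 = 0 := (cj_eq_zero 0).2 rfl
  rw [h3, Matrix.smul_apply, Matrix.one_apply_eq, smul_eq_mul, mul_one] at h2
  have h4 : ω * (ω - 1) = 0 := by linear_combination h2
  rcases mul_eq_zero.1 h4 with h5 | h5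
  · exact H.ne_zero h5
  · exact H.ne_one (sub_eq_zero.1 h5)

open Cfsg.Agent.H48.J3Three Cfsg.Agent.H55 Cfsg.Agent.H55.JThree in
/-- **the automorphisms of a perfect triple cover of `J₃` which fix the centre are inner** -/
theorem inn (hF : Fintype.card F = 4) (hω : ω ^ 2 + ω + 1 = 0) {X : Type} [Group X] [Finite X] (φ : X →* J3 F ω)
    (h1 : Function.Surjective φ) (h2 : φ.ker = center X) (h3 : Nat.card (center X) = 3) (h4 : commutator X = ⊤) :
    ∀ α : MulAut X, (∀ z ∈ center X, α z = z) → ∃ x, α = MulAut.conj x := by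
  have H := J3.Core.good_of_card hF hω
  have := finite_J3 hF hω
  have : Finite (threeJ3 F ω) := Nat.finite_of_card_ne_zero (by rw [J3.Order.card_threeJ3 hF H]; norm_num)
  have h6 : Nat.card (pr F ω).ker = 3 := by rw [ker_pr, J3.Nineteen.card_center hF H]
  rcases H133.FibPce.dichotomy (π := φ) (ρ := pr F ω) ⟨h1, h2.le, h4⟩ (pce hF H) (by rw [h6]; exact Nat.prime_three)
    (by rw [h2, h3, h6]) with h7 | ⟨e, he⟩
  · have h8 := H95.StemCover.card_ker_dvd_cyclic (S2041.result hF ω hω) h7 _ (H133.FibPce.pj_surj h1 pr_surjective)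
      (H133.FibPce.pj_ker h2.le ker_pr.le)
    rw [Nat.card_congr (H133.FibPce.kerFib φ (pr F ω)).toEquiv, Nat.card_prod, h2, h3, h6] at h8
    exact absurd h8 (by decide)
  let δ : MulAut X := (e.trans (phi hF H)).trans e.symm
  have h7 : ∀ x, φ (δ x) = OutGen.centerQuot (phi hF H) (φ x) := fun x => by
    rw [← he, ← he]
    exact congrArg (pr F ω) (e.apply_symm_apply _)
  have hi : (MulAut.conj : J3 F ω →* MulAut (J3 F ω)).range.index = 2 := by
    rw [← OutGen.card_out_eq_index, S2067.result hF ω hω]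
  obtain ⟨s, hs, hn⟩ := phi_moves hF H
  refine inn_of_aut φ h1 h2 h4 (out_cases hi fun ⟨g, hg⟩ =>
    OutGen.centerQuot_not_inner (hom_center hF H) (phi_not_inner hF H) g hg.symm) δ h7 fun h10 => hn ?_
  have h11 : phi hF H (e (e.symm s)) = s :=
    e.symm.injective (h10 _ ((mem_center_congr e _).1 (by rw [e.apply_symm_apply]; exact hs)))
  rwa [e.apply_symm_apply] at h11

end Cfsg.Agent.MK.S2.J3I
end
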